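/-
helper897: the `PSL` row of S5762 (translation from semilinear maps to automorphisms), task 455 of helper903.
-/
import Cfsg.Agent.H199.PslAut
import Cfsg.Agent.H903.SylSemi

set_option autoImplicit false

namespace Cfsg.Agent.H897.MeetPSL

open Matrix Cfsg.Agent.H903.SylMeet Cfsg.Agent.H903.SylSemi Cfsg.Agent.H199.PslAut
open Cfsg.Agent.ClassicalGeometry.AutPSL.Root
open Cfsg.Agent.ClassicalGeometry.AutPSL.Auto

section general

variable {F : Type} [Field F] {n : ℕ}

/-- `SL_n(F)` acting on `F ^ n`. -/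
def rho (n : ℕ) (F : Type) [Field F] :
    Matrix.SpecialLinearGroup (Fin n) F →* Equiv.Perm (Fin n → F) where
  toFun s :=
    { toFun := fun v => (s : Matrix (Fin n) (Fin n) F) *ᵥ v
      invFun := fun v => ((s⁻¹ : Matrix.SpecialLinearGroup (Fin n) F) : Matrix (Fin n) (Fin n) F) *ᵥ v
      left_inv := fun v => by
        change ((s⁻¹ : Matrix.SpecialLinearGroup (Fin n) F) : Matrix (Fin n) (Fin n) F) *ᵥ
          ((s : Matrix (Fin n) (Fin n) F) *ᵥ v) = v
        rw [mulVec_mulVec, ← Matrix.SpecialLinearGroup.coe_mul, inv_mul_cancel,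
          Matrix.SpecialLinearGroup.coe_one, one_mulVec]
      right_inv := fun v => by
        change (s : Matrix (Fin n) (Fin n) F) *ᵥ
          (((s⁻¹ : Matrix.SpecialLinearGroup (Fin n) F) : Matrix (Fin n) (Fin n) F) *ᵥ v) = v
        rw [mulVec_mulVec, ← Matrix.SpecialLinearGroup.coe_mul, mul_inv_cancel,
          Matrix.SpecialLinearGroup.coe_one, one_mulVec] }
  map_one' := by
    ext v : 1
    exact one_mulVec v
  map_mul' s t := by
    ext v : 1
    change ((s * t : Matrix.SpecialLinearGroup (Fin n) F) : Matrix (Fin n) (Fin n) F) *ᵥ v =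
      (s : Matrix (Fin n) (Fin n) F) *ᵥ ((t : Matrix (Fin n) (Fin n) F) *ᵥ v)
    rw [Matrix.SpecialLinearGroup.coe_mul, mulVec_mulVec]

theorem rho_apply (s : Matrix.SpecialLinearGroup (Fin n) F) (v : Fin n → F) :
    rho n F s v = (s : Matrix (Fin n) (Fin n) F) *ᵥ v := rfl

theorem rho_injective : Function.Injective (rho n F) := by
  intro s t h
  apply Subtype.ext
  apply Matrix.mulVec_injective
  funext v
  exact congrArg (fun f : Equiv.Perm (Fin n → F) => f v) h

theorem map_mulVec' (σ : F ≃+* F) (M : Matrix (Fin n) (Fin n) F) (v : Fin n → F) :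
    (fun i => σ ((M *ᵥ v) i)) = (M.map σ) *ᵥ (fun i => σ (v i)) := by
  funext i
  simp [mulVec, dotProduct, map_sum, Matrix.map_apply]

/-- The semilinear map `v ↦ A σ(v)`. -/
def smap (A : GL (Fin n) F) (σ : F ≃+* F) : Equiv.Perm (Fin n → F) where
  toFun v := (A : Matrix (Fin n) (Fin n) F) *ᵥ (fun i => σ (v i))
  invFun v := fun i => σ.symm ((((A⁻¹ : GL (Fin n) F) : Matrix (Fin n) (Fin n) F) *ᵥ v) i)
  left_inv v := by
    funext i
    change σ.symm ((((A⁻¹ : GL (Fin n) F) : Matrix (Fin n) (Fin n) F) *ᵥ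
      ((A : Matrix (Fin n) (Fin n) F) *ᵥ (fun i => σ (v i)))) i) = v i
    rw [mulVec_mulVec, ← Units.val_mul, inv_mul_cancel, Units.val_one, one_mulVec,
      RingEquiv.symm_apply_apply]
  right_inv v := by
    change (A : Matrix (Fin n) (Fin n) F) *ᵥ (fun i => σ (σ.symm
      ((((A⁻¹ : GL (Fin n) F) : Matrix (Fin n) (Fin n) F) *ᵥ v) i))) = v
    simp only [RingEquiv.apply_symm_apply]
    rw [mulVec_mulVec, ← Units.val_mul, mul_inv_cancel, Units.val_one, one_mulVec]

theorem smap_apply (A : GL (Fin n) F) (σ : F ≃+* F) (v : Fin n → F) :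
    smap A σ v = (A : Matrix (Fin n) (Fin n) F) *ᵥ (fun i => σ (v i)) := rfl

theorem semi_smap (A : GL (Fin n) F) (σ : F ≃+* F) : Semi F (smap A σ) σ := by
  constructor
  · intro u v
    rw [smap_apply, smap_apply, smap_apply, ← mulVec_add]
    congr 1
    funext i
    simp
  · intro a v
    rw [smap_apply, smap_apply, ← mulVec_smul]
    congr 1
    funext i
    simp

/-- The semilinear map `v ↦ A σ(v)` induces `Psi A * phi σ`. -/
theorem ind_smap (A : GL (Fin n) F) (σ : F ≃+* F) :
    Ind (pr : Matrix.SpecialLinearGroup (Fin n) F →* _) (rho n F) (smap A σ)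
      (Psi n F A * phi n F σ) := by
  intro s
  refine ⟨cj A (fld σ s), ?_, ?_⟩
  · rw [eq_mul_inv_iff_mul_eq]
    ext v : 1
    simp only [Equiv.Perm.mul_apply]
    rw [smap_apply, smap_apply, rho_apply, rho_apply, map_mulVec', coe_cj, mulVec_mulVec,
      mulVec_mulVec]
    congr 1
    rw [mul_assoc, ← Units.val_mul, inv_mul_cancel, Units.val_one, mul_one]
    congr 1
  · rw [MulAut.mul_apply, phi_pr, Psi_pr]

/-- Every semilinear permutation is of the form `smap`. -/
theorem exists_smap {y : Equiv.Perm (Fin n → F)} {θ : F ≃+* F} (h : Semi F y θ) :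
    ∃ A : GL (Fin n) F, y = smap A θ := by
  obtain ⟨h1, h2⟩ := h
  let f : (Fin n → F) →ₗ[F] (Fin n → F) :=
    { toFun := fun v => y (fun i => θ.symm (v i))
      map_add' := fun u v => by
        rw [← h1]
        congr 1
        funext i
        simp
      map_smul' := fun a v => by
        rw [RingHom.id_apply]
        have h3 := h2 (θ.symm a) (fun i => θ.symm (v i))
        rw [RingEquiv.apply_symm_apply] at h3
        rw [← h3]
        congr 1
        funext i
        simp }
  have hf : ∀ v, f v = y (fun i => θ.symm (v i)) := fun v => rfl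
  have hinj : Function.Injective f := by
    intro u v huv
    rw [hf, hf] at huv
    have h3 := y.injective huv
    funext i
    exact θ.symm.injective (congrFun h3 i)
  have hdet : IsUnit (LinearMap.toMatrix' f).det := by
    rw [LinearMap.det_toMatrix']
    exact (LinearEquiv.ofInjectiveEndo f hinj).isUnit_det'
  obtain ⟨A, hA⟩ := (Matrix.isUnit_iff_isUnit_det _).2 hdet
  refine ⟨A, ?_⟩
  ext v : 1
  rw [smap_apply, hA, LinearMap.toMatrix'_mulVec, hf]
  congr 1
  funext i
  simp

end general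

section finite

variable {F : Type} [Field F] [Fintype F] {n : ℕ}

/-- Squares of automorphisms are induced by semilinear maps. -/
theorem sq_form (hn : 2 ≤ n) (γ : MulAut (Matrix.ProjectiveSpecialLinearGroup (Fin n) F)) :
    ∃ (g : GL (Fin n) F) (σ : F ≃+* F), γ * γ = Psi n F g * phi n F σ := by
  rcases exists_form hn γ with ⟨g, σ, rfl⟩ | ⟨-, g, σ, rfl⟩
  · refine ⟨g * mapGL σ g, σ * σ, ?_⟩
    calc Psi n F g * phi n F σ * (Psi n F g * phi n F σ)
        = Psi n F g * (phi n F σ * Psi n F g) * phi n F σ := by group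
      _ = _ := by rw [phi_mul_Psi, map_mul, map_mul]; group
  · refine ⟨g * mapGL σ (itGL g), σ * σ, ?_⟩
    calc Psi n F g * phi n F σ * iot n F * (Psi n F g * phi n F σ * iot n F)
        = Psi n F g * phi n F σ * (iot n F * Psi n F g) * phi n F σ * iot n F := by group
      _ = Psi n F g * (phi n F σ * Psi n F (itGL g)) * (iot n F * phi n F σ) * iot n F := by
          rw [iot_mul_Psi]; group
      _ = Psi n F g * Psi n F (mapGL σ (itGL g)) * phi n F σ * phi n F σ *
            (iot n F * iot n F) := by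
          rw [phi_mul_Psi, iot_mul_phi]; group
      _ = _ := by rw [iot_mul_iot, mul_one, map_mul, map_mul]; group

/-- Automorphisms in a `p`-group, `p` odd, are induced by semilinear maps. -/
theorem form_of_pgroup (hn : 2 ≤ n) {p : ℕ} [Fact p.Prime] (hp : p ≠ 2)
    {P : Subgroup (MulAut (Matrix.ProjectiveSpecialLinearGroup (Fin n) F))} (hP : IsPGroup p P)
    {β : MulAut (Matrix.ProjectiveSpecialLinearGroup (Fin n) F)} (hβ : β ∈ P) :
    ∃ (g : GL (Fin n) F) (σ : F ≃+* F), β = Psi n F g * phi n F σ := by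
  obtain ⟨k, hk⟩ := hP ⟨β, hβ⟩
  have hk' : β ^ p ^ k = 1 := by
    have := congrArg Subtype.val hk
    simpa using this
  have hodd : Odd (p ^ k) := ((Fact.out : p.Prime).odd_of_ne_two hp).pow
  obtain ⟨m, hm⟩ := hodd
  obtain ⟨g, σ, h⟩ := sq_form hn (β ^ (m + 1))
  refine ⟨g, σ, ?_⟩
  rw [← h, ← pow_add]
  have : m + 1 + (m + 1) = p ^ k + 1 := by omega
  rw [this, pow_succ, hk', one_mul]

theorem meet_PSL {p n : ℕ} [Fact p.Prime] (hp : 5 ≤ p) {F : Type} [Field F] [Fintype F]
    (hn : 2 ≤ n) (_h2 : n = 2 → 4 ≤ Fintype.card F)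
    (h : Cfsg.Agent.H903.SylSemi.SepSL p F (Fin n → F)) :
    Cfsg.Agent.H903.SylMeet.Meet p (Matrix.ProjectiveSpecialLinearGroup (Fin n) F) := by
  intro P hP
  refine good_of_sep (π := (pr : Matrix.SpecialLinearGroup (Fin n) F →*
      Matrix.ProjectiveSpecialLinearGroup (Fin n) F)) (ρ := rho n F)
    (Y := fun y => ∃ θ, Semi F y θ) (X' := IsSLMap F (Fin n → F)) pr_surjective rho_injective
    ?_ ?_ ?_ (fun y hy => hy) ?_ ?_ hP ?_ ?_ ?_ h
  · exact ⟨RingEquiv.refl F, fun u v => rfl, fun a v => rfl⟩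
  · rintro y y' ⟨θ, h1, h2⟩ ⟨θ', h1', h2'⟩
    refine ⟨θ'.trans θ, fun u v => ?_, fun a v => ?_⟩
    · rw [Equiv.Perm.mul_apply, Equiv.Perm.mul_apply, Equiv.Perm.mul_apply, h1', h1]
    · rw [Equiv.Perm.mul_apply, Equiv.Perm.mul_apply, h2', h2]
      rfl
  · intro a
    refine ⟨RingEquiv.refl F, fun u v => ?_, fun b v => ?_⟩
    · rw [scal_apply, scal_apply, scal_apply, smul_add]
    · rw [scal_apply, scal_apply]
      exact smul_comm _ _ _
  · intro s
    refine ⟨fun u v => ?_, fun b v => ?_⟩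
    · rw [rho_apply, rho_apply, rho_apply, mulVec_add]
    · rw [rho_apply, rho_apply, mulVec_smul]
      rfl
  · intro s
    refine ⟨RingEquiv.refl F, fun u v => ?_, fun b v => ?_⟩
    · rw [rho_apply, rho_apply, rho_apply, mulVec_add]
    · rw [rho_apply, rho_apply, mulVec_smul]
      rfl
  · intro β hβ
    obtain ⟨g, σ, rfl⟩ := form_of_pgroup hn (by omega) hP hβ
    exact ⟨smap g σ, ⟨σ, semi_smap g σ⟩, ind_smap g σ⟩
  · rintro y ⟨θ, hθ⟩ hy
    obtain ⟨A, rfl⟩ := exists_smap hθ
    have h1 : Psi n F A * phi n F θ = 1 :=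
      Ind.unique pr_surjective rho_injective (ind_smap A θ) hy
    obtain ⟨⟨u, rfl⟩, h2⟩ := Psi_phi_eq hn (g := A) (σ := θ) (τ := 1) (by rw [h1, map_one])
    refine ⟨u, ?_⟩
    ext v : 1
    rw [smap_apply, h2, scal_apply, Cfsg.Agent.H199.PslAut.coe_scal]
    change (scalar (Fin n) (u : F)) *ᵥ v = (u : F) • v
    rw [Matrix.scalar_apply, Matrix.diagonal_const_mulVec]
  · rintro g ⟨f, hf, hdet⟩
    have hd : (LinearMap.toMatrix' f).det = 1 := by
      rw [LinearMap.det_toMatrix']; exact hdet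
    refine ⟨(⟨LinearMap.toMatrix' f, hd⟩ : Matrix.SpecialLinearGroup (Fin n) F), ?_⟩
    ext v : 1
    refine (rho_apply _ v).trans ?_
    change (LinearMap.toMatrix' f) *ᵥ v = g v
    rw [LinearMap.toMatrix'_mulVec, hf]

end finite

end Cfsg.Agent.H897.MeetPSL
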