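import Mathlib
import Cfsg.Agent.H533.T5.Defs
import Cfsg.Agent.H957.T5M

/-!
# Rows from a subgroup `K` normalised by both automorphisms (T5)

`SRow.congr`, `WRow.congr` : transport along isomorphisms.
`spair_of_sub`, `wpair_of_sub` : `c`, `d` of order `p` preserve the perfect subgroup `K` of `S` and act nontrivially on
it; the row of `K / Z(K)` gives the pair property of `c`, `d`.
`quoEquiv` : `K / Z(K) ≃ G / Z(G)` for a central quotient `K` of a perfect group `G`.
-/

set_option autoImplicit false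
set_option linter.unusedSectionVars false

namespace Cfsg.Agent.H897.T5Sub

open Subgroup Cfsg.Agent.H533.T5 Cfsg.Agent.H957.T5M
open scoped commutatorElement

variable {p : ℕ}

theorem range_conj_congr {S : Type*} [Group S] {S' : Type*} [Group S'] (e : S ≃* S') :
    ((MulAut.conj : S →* MulAut S).range).map (MulAut.congr e).toMonoidHom =
      (MulAut.conj : S' →* MulAut S').range := by
  ext c
  constructor
  · rintro ⟨_, ⟨s, rfl⟩, rfl⟩
    refine ⟨e s, ?_⟩
    ext x
    show e s * x * (e s)⁻¹ = e (s * e.symm x * s⁻¹)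
    rw [map_mul, map_mul, map_inv, e.apply_symm_apply]
  · rintro ⟨s, rfl⟩
    refine ⟨MulAut.conj (e.symm s), ⟨_, rfl⟩, ?_⟩
    ext x
    show e (e.symm s * e.symm x * (e.symm s)⁻¹) = s * x * s⁻¹
    rw [map_mul, map_mul, map_inv, e.apply_symm_apply, e.apply_symm_apply]

theorem orderOf_congr {S : Type*} [Group S] {S' : Type*} [Group S'] (e : S ≃* S') (c : MulAut S) :
    orderOf (MulAut.congr e c) = orderOf c :=
  orderOf_injective (MulAut.congr e).toMonoidHom (MulAut.congr e).injective c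

theorem SRow.congr {S : Type*} [Group S] {S' : Type*} [Group S'] (e : S ≃* S') (h : SRow p S) :
    SRow p S' := by
  intro c d hc hd
  obtain ⟨c', rfl⟩ := (MulAut.congr e).surjective c
  obtain ⟨d', rfl⟩ := (MulAut.congr e).surjective d
  rw [orderOf_congr] at hc hd
  have h1 := SPair.of_injective (MulAut.congr e).toMonoidHom (MulAut.congr e).injective (h c' d' hc hd)
  rw [range_conj_congr] at h1
  exact h1

theorem MRow.congr {S : Type*} [Group S] {S' : Type*} [Group S'] (e : S ≃* S') (h : MRow p S) :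
    MRow p S' := by
  intro c d hc hd
  obtain ⟨c', rfl⟩ := (MulAut.congr e).surjective c
  obtain ⟨d', rfl⟩ := (MulAut.congr e).surjective d
  rw [orderOf_congr] at hc hd
  have h1 := MPair.of_injective (MulAut.congr e).toMonoidHom (MulAut.congr e).injective (h c' d' hc hd)
  rw [range_conj_congr] at h1
  exact h1

theorem WRow.congr {S : Type*} [Group S] {S' : Type*} [Group S'] (e : S ≃* S') (h : WRow p S) :
    WRow p S' := by
  intro c d hc hd
  obtain ⟨c', rfl⟩ := (MulAut.congr e).surjective c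
  obtain ⟨d', rfl⟩ := (MulAut.congr e).surjective d
  rw [orderOf_congr] at hc hd
  have h1 := WPair.of_injective (MulAut.congr e).toMonoidHom (MulAut.congr e).injective (h c' d' hc hd)
  rw [range_conj_congr] at h1
  exact h1

/-! ### the action on `K / Z(K)` -/

theorem map_center {K : Type*} [Group K] (α : MulAut K) : (center K).map (α : K →* K) = center K := by
  ext x
  constructor
  · rintro ⟨y, hy, rfl⟩
    rw [mem_center_iff]
    intro g
    have h1 := mem_center_iff.1 hy (α.symm g)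
    have h2 := congrArg α h1
    rw [map_mul, map_mul, MulEquiv.apply_symm_apply] at h2
    exact h2
  · intro hx
    refine ⟨α.symm x, ?_, MulEquiv.apply_symm_apply α x⟩
    show α.symm x ∈ center K
    rw [mem_center_iff]
    intro g
    apply α.injective
    rw [map_mul, map_mul, MulEquiv.apply_symm_apply]
    exact mem_center_iff.1 hx (α g)

/-- the action of `Aut K` on `K / Z(K)` -/
noncomputable def quo (K : Type*) [Group K] : MulAut K →* MulAut (K ⧸ center K) :=
  MonoidHom.mk' (fun α => QuotientGroup.congr (center K) (center K) α (map_center α)) (by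
    intro a b
    ext x
    obtain ⟨y, rfl⟩ := QuotientGroup.mk_surjective x
    rfl)

theorem quo_mk {K : Type*} [Group K] (α : MulAut K) (y : K) :
    quo K α (QuotientGroup.mk y) = QuotientGroup.mk (α y) := rfl

theorem quo_conj {K : Type*} [Group K] (y : K) :
    quo K (MulAut.conj y) = MulAut.conj (QuotientGroup.mk y : K ⧸ center K) := by
  ext x
  obtain ⟨z, rfl⟩ := QuotientGroup.mk_surjective x
  rfl

/-- an automorphism of a perfect group trivial modulo the centre is trivial -/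
theorem eq_one_of_quo {K : Type*} [Group K] (hK : commutator K = ⊤) {α : MulAut K} (h : quo K α = 1) : α = 1 := by
  have h1 : ∀ y : K, ∃ z ∈ center K, α y = z * y := by
    intro y
    have h2 := congrArg (fun f : MulAut (K ⧸ center K) => f (QuotientGroup.mk y)) h
    have h3 : (QuotientGroup.mk (α y) : K ⧸ center K) = QuotientGroup.mk y := h2
    rw [QuotientGroup.eq] at h3
    have h4 : α y * y⁻¹ ∈ center K := by
      have h5 := inv_mem h3
      rw [mul_inv_rev, inv_inv] at h5
      have h6 := mem_center_iff.1 h5 y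
      have h7 : α y * y⁻¹ = y * (y⁻¹ * α y) * y⁻¹ := by group
      have h8 : y * (y⁻¹ * α y) * y⁻¹ = y⁻¹ * α y := by rw [h6]; group
      rw [h7, h8]; exact h5
    exact ⟨_, h4, by group⟩
  ext y
  show α y = y
  have h2 : y ∈ commutator K := by rw [hK]; exact mem_top y
  have h3 : commutator K ≤ (α.toMonoidHom).eqLocus (MonoidHom.id K) := by
    rw [commutator_def, commutator_le]
    intro a _ b _
    show α ⁅a, b⁆ = ⁅a, b⁆
    obtain ⟨z, hz, h4⟩ := h1 a
    obtain ⟨z', hz', h5⟩ := h1 b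
    rw [map_commutatorElement, h4, h5, commutatorElement_def, commutatorElement_def, mul_inv_rev, mul_inv_rev]
    have c1 : ∀ g, g * z = z * g := fun g => mem_center_iff.1 hz g
    have c2 : ∀ g, g * z' = z' * g := fun g => mem_center_iff.1 hz' g
    calc z * a * (z' * b) * (a⁻¹ * z⁻¹) * (b⁻¹ * z'⁻¹)
        = z * (a * z') * b * a⁻¹ * z⁻¹ * b⁻¹ * z'⁻¹ := by group
      _ = z * (z' * a) * b * a⁻¹ * z⁻¹ * b⁻¹ * z'⁻¹ := by rw [c2 a]
      _ = (z * z') * (a * b * a⁻¹ * z⁻¹) * b⁻¹ * z'⁻¹ := by group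
      _ = (z' * z) * (a * b * a⁻¹ * z⁻¹) * b⁻¹ * z'⁻¹ := by rw [c2 z]
      _ = z' * (z * (a * b * a⁻¹ * z⁻¹)) * b⁻¹ * z'⁻¹ := by group
      _ = z' * ((a * b * a⁻¹ * z⁻¹) * z) * b⁻¹ * z'⁻¹ := by rw [c1]
      _ = z' * (a * b * a⁻¹ * b⁻¹) * z'⁻¹ := by group
      _ = (a * b * a⁻¹ * b⁻¹) * z' * z'⁻¹ := by rw [c2]
      _ = a * b * a⁻¹ * b⁻¹ := by group
  exact h3 h2

section Sub

variable {S : Type*} [Group S] (K : Subgroup S)

/-- the automorphisms preserving `K` -/
def Stb : Subgroup (MulAut S) where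
  carrier := {c | ∀ y, c y ∈ K ↔ y ∈ K}
  one_mem' := fun _ => Iff.rfl
  mul_mem' := fun {a b} ha hb y => (ha (b y)).trans (hb y)
  inv_mem' := fun {a} ha y => by rw [← ha (a⁻¹ y), MulAut.apply_inv_self]

theorem mem_Stb {c : MulAut S} : c ∈ Stb K ↔ ∀ y, c y ∈ K ↔ y ∈ K := Iff.rfl

/-- the restriction to `K` -/
def res : ↥(Stb K) →* MulAut ↥K where
  toFun c :=
    { toFun := fun y => ⟨(c : MulAut S) y, (c.2 y).2 y.2⟩
      invFun := fun y => ⟨(c⁻¹ : MulAut S) y, ((inv_mem c.2) y).2 y.2⟩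
      left_inv := fun y => Subtype.ext (MulAut.inv_apply_self _ (c : MulAut S) (y : S))
      right_inv := fun y => Subtype.ext (MulAut.apply_inv_self _ (c : MulAut S) (y : S))
      map_mul' := fun a b => Subtype.ext (map_mul (c : MulAut S) _ _) }
  map_one' := by ext y; rfl
  map_mul' a b := by ext y; rfl

theorem coe_res (c : ↥(Stb K)) (y : ↥K) : (res K c y : S) = (c : MulAut S) y := rfl

theorem range_le : (MulAut.conj : (↥K ⧸ center ↥K) →* MulAut (↥K ⧸ center ↥K)).range ≤
    (((MulAut.conj : S →* MulAut S).range).subgroupOf (Stb K)).map ((quo ↥K).comp (res K)) := by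
  rintro _ ⟨x, rfl⟩
  obtain ⟨y, rfl⟩ := QuotientGroup.mk_surjective x
  have hy : MulAut.conj (y : S) ∈ Stb K := by
    intro z
    rw [MulAut.conj_apply]
    constructor
    · intro h
      have h1 : z = (y : S)⁻¹ * (y * z * (y : S)⁻¹) * y := by group
      rw [h1]
      exact mul_mem (mul_mem (inv_mem y.2) h) y.2
    · intro h
      exact mul_mem (mul_mem y.2 h) (inv_mem y.2)
  refine ⟨⟨MulAut.conj (y : S), hy⟩, ⟨(y : S), rfl⟩, ?_⟩
  rw [MonoidHom.comp_apply, ← quo_conj]
  congr 1

variable {K}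

theorem orderOf_img (hp : p.Prime) (hK : commutator ↥K = ⊤) {c : ↥(Stb K)} (hc : orderOf (c : MulAut S) = p)
    (hn : ∃ y ∈ K, (c : MulAut S) y ≠ y) : orderOf ((quo ↥K).comp (res K) c) = p := by
  have : Fact p.Prime := ⟨hp⟩
  have h1 : ((quo ↥K).comp (res K) c) ^ p = 1 := by
    have h2 : c ^ p = 1 := by
      apply Subtype.ext
      rw [Subgroup.coe_pow, ← hc, pow_orderOf_eq_one, Subgroup.coe_one]
    rw [← map_pow, h2, map_one]
  refine orderOf_eq_prime h1 fun h0 => ?_
  have h2 := eq_one_of_quo hK (α := res K c) h0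
  obtain ⟨y, hy, hcy⟩ := hn
  apply hcy
  have h3 := congrArg (fun f : MulAut ↥K => ((f ⟨y, hy⟩ : ↥K) : S)) h2
  exact h3

/-- **Pairs normalising `K`, strong form.** -/
theorem spair_of_sub (hp : p.Prime) (hK : commutator ↥K = ⊤) (hrow : SRow p (↥K ⧸ center ↥K)) {c d : MulAut S}
    (hc : orderOf c = p) (hd : orderOf d = p) (hcK : ∀ y, c y ∈ K ↔ y ∈ K) (hdK : ∀ y, d y ∈ K ↔ y ∈ K)
    (hcn : ∃ y ∈ K, c y ≠ y) (hdn : ∃ y ∈ K, d y ≠ y) : SPair p (MulAut.conj : S →* MulAut S).range c d :=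
  SPair.of_section (c := (⟨c, hcK⟩ : ↥(Stb K))) (d := (⟨d, hdK⟩ : ↥(Stb K))) hp ((quo ↥K).comp (res K)) (range_le K)
    (hrow _ _ (orderOf_img hp hK hc hcn) (orderOf_img hp hK hd hdn))

/-- **Pairs normalising `K`, middle form.** -/
theorem mpair_of_sub (hp : p.Prime) (hK : commutator ↥K = ⊤) (hrow : MRow p (↥K ⧸ center ↥K)) {c d : MulAut S}
    (hc : orderOf c = p) (hd : orderOf d = p) (hcK : ∀ y, c y ∈ K ↔ y ∈ K) (hdK : ∀ y, d y ∈ K ↔ y ∈ K)
    (hcn : ∃ y ∈ K, c y ≠ y) (hdn : ∃ y ∈ K, d y ≠ y) : MPair p (MulAut.conj : S →* MulAut S).range c d :=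
  MPair.of_section (c := (⟨c, hcK⟩ : ↥(Stb K))) (d := (⟨d, hdK⟩ : ↥(Stb K))) ((quo ↥K).comp (res K)) (range_le K)
    (hrow _ _ (orderOf_img hp hK hc hcn) (orderOf_img hp hK hd hdn))

/-- **Pairs normalising `K`, weak form.** -/
theorem wpair_of_sub (hp : p.Prime) (hK : commutator ↥K = ⊤) (hrow : WRow p (↥K ⧸ center ↥K)) {c d : MulAut S}
    (hc : orderOf c = p) (hd : orderOf d = p) (hcK : ∀ y, c y ∈ K ↔ y ∈ K) (hdK : ∀ y, d y ∈ K ↔ y ∈ K)
    (hcn : ∃ y ∈ K, c y ≠ y) (hdn : ∃ y ∈ K, d y ≠ y) : WPair p (MulAut.conj : S →* MulAut S).range c d :=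
  WPair.of_section (c := (⟨c, hcK⟩ : ↥(Stb K))) (d := (⟨d, hdK⟩ : ↥(Stb K))) ((quo ↥K).comp (res K)) (range_le K)
    (hrow _ _ (orderOf_img hp hK hc hcn) (orderOf_img hp hK hd hdn))

/-- `c` preserves `K` and is not trivial on it -/
def Moves (K : Subgroup S) (c : MulAut S) : Prop := (∀ y, c y ∈ K ↔ y ∈ K) ∧ ∃ y ∈ K, c y ≠ y

/-- every automorphism of order `p` has an `Inn S`-conjugate preserving `K` and not trivial on it -/
def Red (p : ℕ) (K : Subgroup S) : Prop :=
  ∀ c : MulAut S, orderOf c = p → ∃ g ∈ (MulAut.conj : S →* MulAut S).range, Moves K (g * c * g⁻¹)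

theorem orderOf_conj (g c : MulAut S) : orderOf (g * c * g⁻¹) = orderOf c := by
  rw [← MulAut.conj_apply]
  exact orderOf_injective (MulAut.conj g).toMonoidHom (MulAut.conj g).injective c

theorem srow_of_red (hp : p.Prime) (hK : commutator ↥K = ⊤) (hrow : SRow p (↥K ⧸ center ↥K)) (h : Red p K) :
    SRow p S := by
  intro c d hc hd
  obtain ⟨g, hg, h1, h2⟩ := h c hc
  obtain ⟨g', hg', h1', h2'⟩ := h d hd
  exact (SPair.conj_right hg' (spair_of_sub hp hK hrow (by rw [orderOf_conj, hc]) (by rw [orderOf_conj, hd])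
    h1 h1' h2 h2')).conj_left hg

theorem mrow_of_red (hp : p.Prime) (hK : commutator ↥K = ⊤) (hrow : MRow p (↥K ⧸ center ↥K)) (h : Red p K) :
    MRow p S := by
  intro c d hc hd
  obtain ⟨g, hg, h1, h2⟩ := h c hc
  obtain ⟨g', hg', h1', h2'⟩ := h d hd
  exact (MPair.conj_right hg' (mpair_of_sub hp hK hrow (by rw [orderOf_conj, hc]) (by rw [orderOf_conj, hd])
    h1 h1' h2 h2')).conj_left hg

theorem wrow_of_red (hp : p.Prime) (hK : commutator ↥K = ⊤) (hrow : WRow p (↥K ⧸ center ↥K)) (h : Red p K) :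
    WRow p S := by
  intro c d hc hd
  obtain ⟨g, hg, h1, h2⟩ := h c hc
  obtain ⟨g', hg', h1', h2'⟩ := h d hd
  exact (WPair.conj_right hg' (wpair_of_sub hp hK hrow (by rw [orderOf_conj, hc]) (by rw [orderOf_conj, hd])
    h1 h1' h2 h2')).conj_left hg

end Sub

/-! ### central quotients of perfect groups -/

theorem comap_center {G K : Type*} [Group G] [Group K] (hG : commutator G = ⊤) {f : G →* K}
    (hf : Function.Surjective f) (hk : f.ker ≤ center G) : (center K).comap f = center G := by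
  ext g
  rw [mem_comap]
  constructor
  · intro h
    -- `x ↦ [g, x]` is a homomorphism to the centre
    have h1 : ∀ x, ⁅g, x⁆ ∈ center G := by
      intro x
      apply hk
      rw [MonoidHom.mem_ker, map_commutatorElement, commutatorElement_eq_one_iff_mul_comm]
      exact (mem_center_iff.1 h (f x)).symm
    have h2 : ∀ x y : G, ⁅g, x * y⁆ = ⁅g, x⁆ * ⁅g, y⁆ := by
      intro x y
      have h3 := mem_center_iff.1 (h1 y) x
      calc ⁅g, x * y⁆ = g * x * (g⁻¹ * ⁅g, y⁆ * y) * y⁻¹ * x⁻¹ := by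
            simp only [commutatorElement_def]; group
        _ = g * x * g⁻¹ * (⁅g, y⁆ * x⁻¹) := by group
        _ = g * x * g⁻¹ * (x⁻¹ * ⁅g, y⁆) := by rw [mem_center_iff.1 (h1 y) x⁻¹]
        _ = ⁅g, x⁆ * ⁅g, y⁆ := by rw [commutatorElement_def g x]; group
    let φ : G →* ↥(center G) := MonoidHom.mk' (fun x => ⟨⁅g, x⁆, h1 x⟩) fun x y => Subtype.ext (h2 x y)
    have h3 : commutator G ≤ φ.ker := by
      rw [commutator_def, commutator_le]
      intro a _ b _
      rw [MonoidHom.mem_ker, map_commutatorElement, commutatorElement_eq_one_iff_mul_comm]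
      apply Subtype.ext
      rw [Subgroup.coe_mul, Subgroup.coe_mul]
      exact mem_center_iff.1 (φ b).2 (φ a : G)
    rw [hG] at h3
    rw [mem_center_iff]
    intro x
    have h4 : φ x = 1 := h3 (mem_top x)
    have h5 : ⁅g, x⁆ = 1 := congrArg Subtype.val h4
    rw [commutatorElement_eq_one_iff_mul_comm] at h5
    exact h5.symm
  · intro h
    rw [mem_center_iff]
    intro y
    obtain ⟨x, rfl⟩ := hf y
    rw [← map_mul, mem_center_iff.1 h x, map_mul]

/-- `K / Z(K) ≃ G / Z(G)` -/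
theorem exists_quoEquiv {G K : Type*} [Group G] [Group K] (hG : commutator G = ⊤) {f : G →* K}
    (hf : Function.Surjective f) (hk : f.ker ≤ center G) : Nonempty ((G ⧸ center G) ≃* (K ⧸ center K)) := by
  have h1 : ((QuotientGroup.mk' (center K)).comp f).ker = center G := by
    rw [← MonoidHom.comap_ker, QuotientGroup.ker_mk', comap_center hG hf hk]
  have h2 : Function.Surjective ((QuotientGroup.mk' (center K)).comp f) :=
    (QuotientGroup.mk'_surjective _).comp hf
  exact ⟨(QuotientGroup.quotientMulEquivOfEq h1.symm).trans (QuotientGroup.quotientKerEquivOfSurjective _ h2)⟩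

theorem commutator_of_surjective {G K : Type*} [Group G] [Group K] (hG : commutator G = ⊤) {f : G →* K}
    (hf : Function.Surjective f) : commutator K = ⊤ := by
  rw [commutator_def, ← MonoidHom.range_eq_top.2 hf, MonoidHom.range_eq_map, ← map_commutator, ← commutator_def, hG]

end Cfsg.Agent.H897.T5Sub
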