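import Mathlib
import Cfsg.Agent.Nodes.SimplyLaced
import Cfsg.Agent.Nodes.BlockRoots
import Cfsg.Agent.Nodes.StabComb

/-!
# Stabilisers of classes modulo `p` of the root lattice, simply laced case (T5)

`mem_VV_of_rep` : if `w μ ≡ μ` modulo `p` then `w` is a product of reflections in roots `β` with `p ∣ (μ, β)`.
`exists_fix` : an isometry `θ` with `θ μ ≡ μ` modulo `p` fixes, up to such reflections, a vector of the class.
-/

set_option autoImplicit false
set_option linter.unusedSectionVars false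

namespace Cfsg.Agent.H897.T5Lat

open CoxeterSystem Cfsg.Agent.ChevalleyStructure.CoxeterGeom Cfsg.Agent.Tits.Roots Cfsg.Agent.Tits.Core
  Cfsg.Agent.Tits.RootComb Cfsg.Agent.Nodes.Comb Cfsg.Agent.Nodes.Reps Cfsg.Agent.Nodes.SubComb
  Cfsg.Agent.Nodes.Coroot Cfsg.Agent.Nodes.SimplyLaced Cfsg.Agent.Nodes.StabComb

variable {I W : Type*} [Fintype I] [DecidableEq I] [Group W] {M : CoxeterMatrix I}
  (cs : CoxeterSystem M W) {A : I → I → ℤ} (h : IsCartan M A)

/-- The symmetric form of a simply laced root system. -/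
structure Frm (B : LinearMap.BilinForm ℤ (I → ℤ)) : Prop where
  symm : ∀ x y, B x y = B y x
  pos : ∀ x, x ≠ 0 → 0 < B x x
  inv : ∀ (w : W) x y, B (rep cs h w x) (rep cs h w y) = B x y
  cpr : ∀ x y, IsRoot cs h y → B x y = cpr cs h x y
  sl : ∀ x y, IsRoot cs h x → IsRoot cs h y → x ≠ y → x ≠ -y → |Cfsg.Agent.Nodes.Coroot.cpr cs h x y| ≤ 1

variable {cs h} {B : LinearMap.BilinForm ℤ (I → ℤ)}

namespace Frm

variable [Finite W] (F : Frm cs h B)
include F

theorem self {x : I → ℤ} (hx : IsRoot cs h x) : B x x = 2 := by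
  rw [F.cpr x x hx, cpr_self cs h hx]

theorem nonneg (x : I → ℤ) : 0 ≤ B x x := by
  by_cases hx : x = 0
  · rw [hx, map_zero]
  · exact (F.pos x hx).le

theorem eq_zero {x : I → ℤ} (hx : B x x ≤ 0) : x = 0 := by
  by_contra hcon
  exact absurd (F.pos x hcon) (not_lt.2 hx)

/-- the norm of a sum -/
theorem norm_add (x y : I → ℤ) : B (x + y) (x + y) = B x x + 2 * B x y + B y y := by
  simp only [map_add, LinearMap.add_apply]
  rw [F.symm y x]
  ring

theorem norm_sub_smul (x y : I → ℤ) (m : ℤ) : B (x - m • y) (x - m • y) = B x x - 2 * m * B x y + m * m * B y y := by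
  rw [sub_eq_add_neg, F.norm_add]
  simp only [map_neg, LinearMap.neg_apply, map_smul, LinearMap.smul_apply, smul_eq_mul]
  ring

theorem sum_nonneg (x : I → ℤ) : ∀ L : List (I → ℤ), (∀ y ∈ L, 0 ≤ B x y) → 0 ≤ B x L.sum
  | [], _ => by rw [List.sum_nil, map_zero]
  | y :: L, hL => by
    rw [List.sum_cons, map_add]
    exact add_nonneg (hL y List.mem_cons_self) (sum_nonneg x L fun z hz => hL z (List.mem_cons_of_mem _ hz))

theorem sum_le (x : I → ℤ) (c : ℤ) : ∀ L : List (I → ℤ), (∀ y ∈ L, B x y ≤ c) → B x L.sum ≤ c * L.length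
  | [], _ => by rw [List.sum_nil, map_zero]; simp
  | y :: L, hL => by
    rw [List.sum_cons, map_add, List.length_cons]
    have h1 := hL y List.mem_cons_self
    have h2 := sum_le x c L fun z hz => hL z (List.mem_cons_of_mem _ hz)
    push_cast
    linarith

/-- Sums of roots without obtuse pairs are long. -/
theorem norm_sum : ∀ L : List (I → ℤ), (∀ x ∈ L, IsRoot cs h x) → L.Pairwise (fun x y => 0 ≤ B x y) →
    2 * (L.length : ℤ) ≤ B L.sum L.sum
  | [], _, _ => by rw [List.sum_nil, map_zero]; simp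
  | x :: L, hL, hP => by
    rw [List.pairwise_cons] at hP
    rw [List.sum_cons, F.norm_add, F.self (hL x List.mem_cons_self), List.length_cons]
    have h1 := norm_sum L (fun z hz => hL z (List.mem_cons_of_mem _ hz)) hP.2
    have h2 := F.sum_nonneg x L hP.1
    push_cast
    linarith

/-- Every sum of roots is a sum of at most as many roots without obtuse pairs. -/
theorem exists_pairwise : ∀ (n : ℕ) (L : List (I → ℤ)), L.length ≤ n → (∀ x ∈ L, IsRoot cs h x) →
    ∃ L' : List (I → ℤ), L'.length ≤ L.length ∧ (∀ x ∈ L', IsRoot cs h x) ∧ L'.sum = L.sum ∧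
      L'.Pairwise (fun x y => 0 ≤ B x y) := by
  intro n
  induction n with
  | zero =>
    intro L hL _
    have h0 : L = [] := List.length_eq_zero_iff.1 (Nat.le_zero.1 hL)
    subst h0
    exact ⟨[], le_refl _, by simp, rfl, List.Pairwise.nil⟩
  | succ n ih =>
    intro L hL hR
    rcases L with _ | ⟨x, L1⟩
    · exact ⟨[], le_refl _, by simp, rfl, List.Pairwise.nil⟩
    rw [List.length_cons] at hL
    obtain ⟨L2, hl, hr, hs, hp⟩ := ih L1 (by omega) fun z hz => hR z (List.mem_cons_of_mem _ hz)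
    have hx := hR x List.mem_cons_self
    by_cases hall : ∀ y ∈ L2, 0 ≤ B x y
    · refine ⟨x :: L2, ?_, ?_, ?_, List.pairwise_cons.2 ⟨hall, hp⟩⟩
      · rw [List.length_cons, List.length_cons]; omega
      · intro z hz
        rcases List.mem_cons.1 hz with rfl | hz
        · exact hx
        · exact hr z hz
      · rw [List.sum_cons, List.sum_cons, hs]
    · push Not at hall
      obtain ⟨y, hy, hxy⟩ := hall
      have hyr := hr y hy
      obtain ⟨L3, hL3⟩ : ∃ L3, L2.Perm (y :: L3) := ⟨_, List.perm_cons_erase hy⟩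
      have hlen : L2.length = L3.length + 1 := by rw [hL3.length_eq, List.length_cons]
      have hsum : L2.sum = y + L3.sum := by rw [hL3.sum_eq, List.sum_cons]
      have hr3 : ∀ z ∈ L3, IsRoot cs h z := fun z hz => hr z (hL3.mem_iff.2 (List.mem_cons_of_mem _ hz))
      by_cases hxy' : x = -y
      · -- cancel
        obtain ⟨L4, h1, h2, h3, h4⟩ := ih L3 (by omega) hr3
        refine ⟨L4, ?_, h2, ?_, h4⟩
        · rw [List.length_cons]; omega
        · rw [h3, List.sum_cons, ← hs, hsum, hxy']; abel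
      · have hne : x ≠ y := by
          rintro rfl
          rw [F.self hx] at hxy
          omega
        have hc := F.sl x y hx hyr hne hxy'
        rw [F.cpr x y hyr] at hxy
        have hc1 : Cfsg.Agent.Nodes.Coroot.cpr cs h x y = -1 := by
          rw [abs_le] at hc
          omega
        have h1 := isRoot_refl cs h hx hyr
        rw [hc1] at h1
        have h2 : x - (-1 : ℤ) • y = x + y := by rw [neg_smul, one_smul, sub_neg_eq_add]
        rw [h2] at h1
        obtain ⟨L4, h3, h4, h5, h6⟩ := ih ((x + y) :: L3) (by rw [List.length_cons]; omega) (by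
          intro z hz
          rcases List.mem_cons.1 hz with rfl | hz
          · exact h1
          · exact hr3 z hz)
        refine ⟨L4, ?_, h4, ?_, h6⟩
        · rw [List.length_cons] at h3 ⊢; omega
        · rw [h5, List.sum_cons, List.sum_cons, ← hs, hsum, add_assoc]

omit F in
theorem sum_sr_list : ∀ (s : List I) (x : I → ℤ), ∃ L : List (I → ℤ), (∀ y ∈ L, IsRoot cs h y) ∧
    L.sum = (s.map fun i => x i • sr i).sum
  | [], _ => ⟨[], by simp, rfl⟩
  | i :: s, x => by
    obtain ⟨L, h1, h2⟩ := sum_sr_list s x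
    have key : ∀ n : ℕ, ∀ c : I → ℤ, IsRoot cs h c → ∃ L : List (I → ℤ), (∀ y ∈ L, IsRoot cs h y) ∧
        L.sum = (n : ℤ) • c := by
      intro n c hc
      refine ⟨List.replicate n c, fun y hy => by rw [List.eq_of_mem_replicate hy]; exact hc, ?_⟩
      rw [List.sum_replicate, natCast_zsmul]
    obtain ⟨L', h3, h4⟩ : ∃ L' : List (I → ℤ), (∀ y ∈ L', IsRoot cs h y) ∧ L'.sum = x i • sr i := by
      rcases Int.eq_nat_or_neg (x i) with ⟨n, hn | hn⟩
      · rw [hn]; exact key n _ (isRoot_sr cs h i)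
      · rw [hn, neg_smul, ← smul_neg]; exact key n _ (isRoot_sr cs h i).neg
    refine ⟨L' ++ L, fun y hy => ?_, ?_⟩
    · rcases List.mem_append.1 hy with hy | hy
      · exact h3 y hy
      · exact h1 y hy
    · rw [List.sum_append, h4, h2, List.map_cons, List.sum_cons]

omit F in
/-- Every vector is a sum of roots. -/
theorem exists_list (x : I → ℤ) : ∃ L : List (I → ℤ), (∀ y ∈ L, IsRoot cs h y) ∧ L.sum = x := by
  obtain ⟨L, h1, h2⟩ := sum_sr_list (cs := cs) (h := h) (Finset.univ : Finset I).toList x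
  refine ⟨L, h1, ?_⟩
  rw [h2, Finset.sum_map_toList]
  exact (eq_sum_sr x).symm

end Frm

/-- `μ` has minimal norm in its class modulo `p`. -/
def Min (B : LinearMap.BilinForm ℤ (I → ℤ)) (p : ℕ) (μ : I → ℤ) : Prop :=
  ∀ l : I → ℤ, B μ μ ≤ B (μ - (p : ℤ) • l) (μ - (p : ℤ) • l)

variable (cs h) in
/-- the group generated by the reflections in roots `β` with `p ∣ (μ, β)` -/
def VV (p : ℕ) (μ : I → ℤ) : Subgroup W :=
  Subgroup.closure {r | ∃ w i, (p : ℤ) ∣ cpr cs h μ (rep cs h w (sr i)) ∧ r = rfl' cs w i}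

theorem VV_congr [Finite W] {p : ℕ} {μ l : I → ℤ} : VV cs h p (μ - (p : ℤ) • l) = VV cs h p μ := by
  have key : ∀ w i, (p : ℤ) ∣ cpr cs h (μ - (p : ℤ) • l) (rep cs h w (sr i)) ↔
      (p : ℤ) ∣ cpr cs h μ (rep cs h w (sr i)) := by
    intro w i
    have hr : IsRoot cs h (rep cs h w (sr i)) := ⟨w, i, rfl⟩
    rw [sub_eq_add_neg, ← smul_neg, cpr_add cs h _ _ hr, cpr_smul cs h _ _ hr]
    exact (Int.dvd_add_left (Dvd.intro _ rfl))
  unfold VV
  congr 1
  ext r
  constructor
  · rintro ⟨w, i, h1, h2⟩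
    exact ⟨w, i, (key w i).1 h1, h2⟩
  · rintro ⟨w, i, h1, h2⟩
    exact ⟨w, i, (key w i).2 h1, h2⟩

section Main

variable [Finite W] (F : Frm cs h B) {p : ℕ}
include F

theorem Min.le {μ : I → ℤ} (hp : 0 < p) (hμ : Min B p μ) {β : I → ℤ} (hβ : IsRoot cs h β) : B μ β ≤ p := by
  have h1 := hμ β
  rw [F.norm_sub_smul, F.self hβ] at h1
  have hp' : (0 : ℤ) < p := by exact_mod_cast hp
  by_contra hcon
  push Not at hcon
  nlinarith

/-- The step towards another minimal vector. -/
theorem exists_step (hp : 0 < p) {μ ν : I → ℤ} (hμ : Min B p μ) (hμν : Min B p (μ - (p : ℤ) • ν)) (hν : ν ≠ 0) :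
    ∃ β, IsRoot cs h β ∧ B μ β = p ∧ B ν β = 2 := by
  have hp' : (0 : ℤ) < p := by exact_mod_cast hp
  obtain ⟨L0, hR0, hs0⟩ := Frm.exists_list (cs := cs) (h := h) ν
  obtain ⟨L, -, hR, hs, hP⟩ := F.exists_pairwise L0.length L0 (le_refl _) hR0
  rw [hs0] at hs
  rcases L with _ | ⟨β, L⟩
  · exact absurd hs.symm hν
  rw [List.pairwise_cons] at hP
  have hβ := hR β List.mem_cons_self
  have hR' : ∀ x ∈ L, IsRoot cs h x := fun z hz => hR z (List.mem_cons_of_mem _ hz)
  rw [List.sum_cons] at hs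
  -- the norms
  have h1 : (p : ℤ) * B ν ν = 2 * B μ ν := by
    have h2 := hμ ν
    have h3 := hμν (-ν)
    have h4 : μ - (p : ℤ) • ν - (p : ℤ) • (-ν) = μ := by rw [smul_neg]; abel
    rw [h4] at h3
    have h5 := le_antisymm h2 h3
    rw [F.norm_sub_smul] at h5
    have h6 : (p : ℤ) * ((p : ℤ) * B ν ν - 2 * B μ ν) = 0 := by linarith
    rcases mul_eq_zero.1 h6 with h7 | h7
    · omega
    · linarith
  have h2 := F.norm_sum L hR' hP.2
  have h3 : B ν ν = 2 + 2 * B β L.sum + B L.sum L.sum := by rw [← hs, F.norm_add, F.self hβ]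
  have h4 : B μ ν = B μ β + B μ L.sum := by rw [← hs, map_add]
  have h5 := F.sum_le μ p L fun y hy => hμ.le F hp (hR' y hy)
  have h6 := hμ.le F hp hβ
  have h7 := F.sum_nonneg β L hP.1
  have h8 : (p : ℤ) * B β L.sum ≤ 0 := by nlinarith
  have h9 : B β L.sum = 0 := by
    by_contra hcon
    have : 0 < B β L.sum := lt_of_le_of_ne h7 (Ne.symm hcon)
    nlinarith
  refine ⟨β, hβ, ?_, ?_⟩
  · rw [h9] at h3
    nlinarith
  · rw [← hs, F.symm, map_add, F.self hβ, h9, add_zero]

/-- **Minimal vectors of a class are conjugate.** -/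
theorem trans (hp : 0 < p) : ∀ (n : ℕ) {μ ν : I → ℤ}, Min B p μ → Min B p (μ - (p : ℤ) • ν) → B ν ν ≤ n →
    ∃ v ∈ VV cs h p μ, rep cs h v μ = μ - (p : ℤ) • ν := by
  intro n
  induction n with
  | zero =>
    intro μ ν _ _ hn
    have h0 := F.eq_zero hn
    refine ⟨1, one_mem _, ?_⟩
    rw [map_one, Module.End.one_apply, h0, smul_zero, sub_zero]
  | succ n ih =>
    intro μ ν hμ hμν hn
    by_cases hν : ν = 0
    · refine ⟨1, one_mem _, ?_⟩
      rw [map_one, Module.End.one_apply, hν, smul_zero, sub_zero]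
    obtain ⟨β, hβ, h1, h2⟩ := exists_step F hp hμ hμν hν
    obtain ⟨w, i, rfl⟩ := hβ
    have hβ : IsRoot cs h (rep cs h w (sr i)) := ⟨w, i, rfl⟩
    obtain ⟨β, hβe⟩ : ∃ β, β = rep cs h w (sr i) := ⟨_, rfl⟩
    have h3 : rep cs h (rfl' cs w i) μ = μ - (p : ℤ) • β := by
      rw [rep_rfl'_eq, ← F.cpr _ _ hβ, h1, hβe]
    have hmem : rfl' cs w i ∈ VV cs h p μ := by
      refine Subgroup.subset_closure ⟨w, i, ?_, rfl⟩
      rw [← F.cpr _ _ hβ, h1]
    have hmin : Min B p (μ - (p : ℤ) • β) := by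
      intro l
      have h4 : B (μ - (p : ℤ) • β) (μ - (p : ℤ) • β) = B μ μ := by rw [← h3, F.inv]
      rw [h4, sub_sub, ← smul_add]
      exact hμ _
    have h5 : μ - (p : ℤ) • β - (p : ℤ) • (ν - β) = μ - (p : ℤ) • ν := by rw [smul_sub]; abel
    obtain ⟨v, hv, hv1⟩ := ih (μ := μ - (p : ℤ) • β) (ν := ν - β) hmin (by rw [h5]; exact hμν) (by
      have h6 := F.norm_sub_smul ν β 1
      rw [one_smul] at h6
      rw [h6, hβe, h2, F.self hβ]
      push_cast at hn
      linarith)
    rw [VV_congr] at hv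
    refine ⟨v * rfl' cs w i, mul_mem hv hmem, ?_⟩
    rw [rep_mul_apply, h3, hv1, h5]

omit F in
/-- The stabiliser of a vector is generated by reflections. -/
theorem mem_VV_of_fix {μ : I → ℤ} {u : W} (hu : rep cs h u μ = μ) : u ∈ VV cs h p μ := by
  obtain ⟨w, hw⟩ := exists_dom_rep cs h μ
  have h1 : rep cs h (w * u * w⁻¹) (rep cs h w μ) = rep cs h w μ := by
    rw [rep_mul_apply, rep_mul_apply, rep_inv_apply, hu]
  have h2 := mem_WJ_of_rep hw h1
  have h3 : ∀ v ∈ WJ cs (orth cs h (rep cs h w μ)), w⁻¹ * v * w ∈ VV cs h p μ := by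
    intro v hv
    induction hv using Subgroup.closure_induction with
    | mem v hv =>
      obtain ⟨i, hi, rfl⟩ := hv
      refine Subgroup.subset_closure ⟨w⁻¹, i, ?_, ?_⟩
      · rw [cpr_rep_sr, inv_inv, mem_orth.1 hi]
        exact dvd_zero _
      · rw [rfl', inv_inv]
    | one => rw [mul_one, inv_mul_cancel]; exact one_mem _
    | mul a b _ _ ha hb =>
      have : w⁻¹ * (a * b) * w = (w⁻¹ * a * w) * (w⁻¹ * b * w) := by group
      rw [this]; exact mul_mem ha hb
    | inv a _ ha =>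
      have : w⁻¹ * a⁻¹ * w = (w⁻¹ * a * w)⁻¹ := by group
      rw [this]; exact inv_mem ha
  have h4 := h3 _ h2
  have h5 : w⁻¹ * (w * u * w⁻¹) * w = u := by group
  rwa [h5] at h4

/-- every class has a minimal vector -/
theorem exists_min (p : ℕ) (μ : I → ℤ) : ∃ l, Min B p (μ - (p : ℤ) • l) := by
  obtain ⟨l, hl⟩ : ∃ l : I → ℤ, ∀ l' : I → ℤ, (B (μ - (p : ℤ) • l) (μ - (p : ℤ) • l)).toNat ≤
      (B (μ - (p : ℤ) • l') (μ - (p : ℤ) • l')).toNat :=
    ⟨_, fun l' => Function.argmin_le (fun l : I → ℤ => (B (μ - (p : ℤ) • l) (μ - (p : ℤ) • l)).toNat) l'⟩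
  refine ⟨l, fun l' => ?_⟩
  have h1 := hl (l + l')
  have h2 : μ - (p : ℤ) • l - (p : ℤ) • l' = μ - (p : ℤ) • (l + l') := by rw [smul_add]; abel
  rw [h2]
  have h3 := F.nonneg (μ - (p : ℤ) • l)
  have h4 := F.nonneg (μ - (p : ℤ) • (l + l'))
  omega

/-- **An isometry fixing the class of `μ` fixes a minimal vector of the class, up to reflections.** -/
theorem exists_fix (hp : 0 < p) {θ : (I → ℤ) → I → ℤ} (hθ : ∀ x, B (θ x) (θ x) = B x x)
    (hsub : ∀ x l, ∃ l', θ (x - (p : ℤ) • l) = θ x - (p : ℤ) • l')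
    (hsub' : ∀ x l, ∃ l', θ l' = l ∧ θ (x - (p : ℤ) • l') = θ x - (p : ℤ) • l)
    {μ l0 : I → ℤ} (hμ : θ μ = μ - (p : ℤ) • l0) :
    ∃ l, Min B p (μ - (p : ℤ) • l) ∧ ∃ v ∈ VV cs h p μ, rep cs h v (θ (μ - (p : ℤ) • l)) = μ - (p : ℤ) • l := by
  obtain ⟨l, hl⟩ := exists_min F p μ
  refine ⟨l, hl, ?_⟩
  obtain ⟨l1, h1⟩ := hsub μ l
  -- `θ` of the minimal vector is minimal
  have hmin : Min B p (θ (μ - (p : ℤ) • l)) := by
    intro l2
    obtain ⟨l3, -, h3⟩ := hsub' (μ - (p : ℤ) • l) l2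
    rw [← h3, hθ, hθ]
    exact hl l3
  have h2 : μ - (p : ℤ) • l = θ (μ - (p : ℤ) • l) - (p : ℤ) • (l - l0 - l1) := by
    rw [h1, hμ, smul_sub, smul_sub]; abel
  have hn : B (l - l0 - l1) (l - l0 - l1) ≤ ((B (l - l0 - l1) (l - l0 - l1)).toNat : ℤ) := by
    rw [Int.toNat_of_nonneg (F.nonneg _)]
  obtain ⟨v, hv, hv1⟩ := trans F hp _ hmin (by rw [← h2]; exact hl) hn
  refine ⟨v, ?_, ?_⟩
  · have h3 : VV cs h p (θ (μ - (p : ℤ) • l)) = VV cs h p μ := by
      have h4 : θ (μ - (p : ℤ) • l) = μ - (p : ℤ) • (l0 + l1) := by rw [h1, hμ, smul_add]; abel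
      rw [h4, VV_congr]
    rwa [h3] at hv
  · rw [hv1, ← h2]

/-- **The stabiliser of a class modulo `p` is generated by reflections.** -/
theorem mem_VV_of_rep (hp : 0 < p) {w : W} {μ l0 : I → ℤ} (hw : rep cs h w μ = μ - (p : ℤ) • l0) :
    w ∈ VV cs h p μ := by
  obtain ⟨l, hl, v, hv, hv1⟩ := exists_fix F hp (θ := fun x => rep cs h w x) (fun x => F.inv w x x)
    (fun x l => ⟨rep cs h w l, by rw [map_sub, map_smul]⟩)
    (fun x l => ⟨rep cs h w⁻¹ l, rep_apply_inv cs h w l, by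
      show rep cs h w (x - (p : ℤ) • rep cs h w⁻¹ l) = _
      rw [map_sub, map_smul, rep_apply_inv]⟩) hw
  have h1 : v * w ∈ VV cs h p (μ - (p : ℤ) • l) := mem_VV_of_fix (by rw [rep_mul_apply]; exact hv1)
  rw [VV_congr] at h1
  have h2 : w = v⁻¹ * (v * w) := by group
  rw [h2]
  exact mul_mem (inv_mem hv) h1

end Main

/-! ### The form from the Cartan matrix -/

section Form

variable [Finite W]

/-- the bilinear form of the Cartan matrix -/
noncomputable def bf (A : I → I → ℤ) : LinearMap.BilinForm ℤ (I → ℤ) := Matrix.toBilin' (Matrix.of A)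

theorem bf_apply (x y : I → ℤ) : bf A x y = ∑ i, ∑ j, x i * A i j * y j := by
  rw [bf, Matrix.toBilin'_apply]
  rfl

variable (cs h) in
theorem frm (h4 : ∀ i j, M i j ≠ 4) (h6 : ∀ i j, M i j ≠ 6)
    (hlen : ∀ [Fintype W], ∀ i j, form cs h (sr i) (sr i) = form cs h (sr j) (sr j)) : Frm cs h (bf A) := by
  have := Fintype.ofFinite W
  have hAs : ∀ i j, A i j = A j i := by
    intro i j
    rw [cart_eq h4 h6 h, cart_eq h4 h6 h, M.symmetric i j]
    by_cases hij : i = j
    · subst hij; rfl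
    · rw [if_neg hij, if_neg (Ne.symm hij)]
  have hsymm : ∀ x y, bf A x y = bf A y x := by
    intro x y
    rw [bf_apply, bf_apply, Finset.sum_comm]
    refine Finset.sum_congr rfl fun i _ => Finset.sum_congr rfl fun j _ => ?_
    rw [hAs j i]; ring
  have hcpr : ∀ x y, IsRoot cs h y → bf A x y = cpr cs h x y := by
    intro x y hy
    rw [cpr_eq_sum cs h h4 h6 x hy, bf_apply]
    refine Finset.sum_congr rfl fun i _ => ?_
    rw [pairing, Finset.mul_sum]
    refine Finset.sum_congr rfl fun j _ => ?_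
    ring
  by_cases hI : Nonempty I
  swap
  · rw [not_nonempty_iff] at hI
    have he : ∀ x y : I → ℤ, x = y := fun x y => funext fun i => (IsEmpty.false i).elim
    refine ⟨hsymm, fun x hx => (hx (he _ _)).elim, fun w x y => by rw [he (rep cs h w x) x, he (rep cs h w y) y],
      hcpr, fun x y hx hy h1 h2 => abs_cpr_le_one cs h h4 h6 hx hy h1 h2⟩
  obtain ⟨i0⟩ := hI
  obtain ⟨c0, hc0⟩ : ∃ c0, c0 = form cs h (sr i0) (sr i0) := ⟨_, rfl⟩
  have hc0p : 0 < c0 := by
    rw [hc0]
    exact form_pos cs h (fun h0 => by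
      have h1 := congrFun h0 i0
      rw [sr_self] at h1
      exact one_ne_zero h1)
  have hform : ∀ x y, 2 * form cs h x y = bf A x y * c0 := by
    intro x y
    have h1 : ∀ i, 2 * form cs h x (sr i) = bf A x (sr i) * c0 := by
      intro i
      rw [two_form_cpr cs h x (isRoot_sr cs h i), hcpr _ _ (isRoot_sr cs h i), hc0, hlen i i0]
    have h2 : ∀ s : Finset I, 2 * form cs h x (∑ k ∈ s, y k • sr k) = bf A x (∑ k ∈ s, y k • sr k) * c0 := by
      classical
      intro s
      induction s using Finset.induction_on with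
      | empty => rw [Finset.sum_empty, form_zero_right, map_zero, mul_zero, zero_mul]
      | insert a s ha ih =>
        rw [Finset.sum_insert ha, form_add_right, form_smul_right, map_add, map_smul, smul_eq_mul, mul_add, ih, add_mul]
        have := h1 a
        linear_combination (y a) * this
    have h3 := h2 Finset.univ
    rwa [← eq_sum_sr y] at h3
  refine ⟨hsymm, fun x hx => ?_, fun w x y => ?_, hcpr,
    fun x y hx hy h1 h2 => abs_cpr_le_one cs h h4 h6 hx hy h1 h2⟩
  · have h1 := hform x x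
    have h2 := form_pos cs h hx
    by_contra hcon
    push Not at hcon
    nlinarith
  · have h1 := hform x y
    have h2 := hform (rep cs h w x) (rep cs h w y)
    rw [form_rep, h1] at h2
    exact (mul_right_cancel₀ hc0p.ne' h2).symm

end Form

end Cfsg.Agent.H897.T5Lat
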