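import Mathlib
import Cfsg.Agent.H897.T5Lat

/-!
# Connected simply laced diagrams: the simple roots are conjugate (T5)
-/

set_option autoImplicit false
set_option linter.unusedSectionVars false

namespace Cfsg.Agent.H897.T5Conn

open CoxeterSystem Cfsg.Agent.ChevalleyStructure.CoxeterGeom Cfsg.Agent.Tits.Roots Cfsg.Agent.Tits.Core
  Cfsg.Agent.Tits.RootComb Cfsg.Agent.Nodes.Comb Cfsg.Agent.Nodes.Reps Cfsg.Agent.Nodes.SubComb
  Cfsg.Agent.Nodes.Coroot Cfsg.Agent.H897.T5Lat

variable {I W : Type*} [Fintype I] [DecidableEq I] [Group W] {M : CoxeterMatrix I}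
  (cs : CoxeterSystem M W) {A : I → I → ℤ} (h : IsCartan M A)

/-- two simple roots joined by a simple edge are conjugate -/
theorem exists_act_of_three {i j : I} (hij : M i j = 3) : ∃ w : W, rep cs h w (sr i) = sr j := by
  have hne : i ≠ j := by
    rintro rfl
    rw [M.diagonal] at hij
    norm_num at hij
  have hA : A i j = -1 ∧ A j i = -1 := by
    rcases h.rel i j hne with h1 | h1 | h1 | h1
    · omega
    · exact h1.2
    · omega
    · omega
  refine ⟨cs.simple i * cs.simple j, ?_⟩
  have e1 : rep cs h (cs.simple j) (sr i) = sr i + sr j := by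
    rw [rep_simple_eq, sr, sr, pairing_single, hA.2]
    simp only [mul_one, neg_smul, one_smul, sub_neg_eq_add]
  have e2 : rep cs h (cs.simple i) (sr j) = sr j + sr i := by
    rw [rep_simple_eq, sr, sr, pairing_single, hA.1]
    simp only [mul_one, neg_smul, one_smul, sub_neg_eq_add]
  rw [rep_mul_apply, e1, map_add, e2, rep_simple_sr]
  abel

/-- `par` leads to `i0` along edges -/
def Par (M : CoxeterMatrix I) (i0 : I) (par : I → I) (n : ℕ) : Prop :=
  (∀ j, j = i0 ∨ M j (par j) = 3) ∧ par i0 = i0 ∧ ∀ j, par^[n] j = i0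

variable {cs h} in
theorem Par.conj {i0 : I} {par : I → I} {n : ℕ} (hP : Par M i0 par n) (j : I) :
    ∃ w : W, rep cs h w (sr j) = sr i0 := by
  have key : ∀ (m : ℕ) (j : I), par^[m] j = i0 → ∃ w : W, rep cs h w (sr j) = sr i0 := by
    intro m
    induction m with
    | zero =>
      intro j hj
      have hj' : j = i0 := hj
      exact ⟨1, by rw [hj', map_one, Module.End.one_apply]⟩
    | succ m ih =>
      intro j hj
      rw [Function.iterate_succ_apply] at hj
      obtain ⟨w, hw⟩ := ih _ hj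
      rcases hP.1 j with h1 | h1
      · exact ⟨1, by rw [h1, map_one, Module.End.one_apply]⟩
      · obtain ⟨w', hw'⟩ := exists_act_of_three cs h h1
        exact ⟨w * w', by rw [rep_mul_apply, hw', hw]⟩
  exact key n j (hP.2.2 j)

variable {cs h} in
/-- **All roots are conjugate to `α_{i0}`.** -/
theorem Par.trans {i0 : I} {par : I → I} {n : ℕ} (hP : Par M i0 par n) {a : I → ℤ} (ha : IsRoot cs h a) :
    ∃ w : W, rep cs h w a = sr i0 := by
  obtain ⟨w, j, rfl⟩ := ha
  obtain ⟨w', hw'⟩ := hP.conj (cs := cs) (h := h) j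
  exact ⟨w' * w⁻¹, by rw [rep_mul_apply, rep_inv_apply, hw']⟩

theorem Par.len {i0 : I} {par : I → I} {n : ℕ} (hP : Par M i0 par n) [Fintype W] (i j : I) :
    form cs h (sr i) (sr i) = form cs h (sr j) (sr j) := by
  obtain ⟨w, hw⟩ := hP.conj (cs := cs) (h := h) i
  obtain ⟨w', hw'⟩ := hP.conj (cs := cs) (h := h) j
  rw [← form_rep cs h w, hw, ← form_rep cs h w' (sr j), hw']

/-- the form of a connected simply laced diagram -/
theorem Par.frm [Finite W] {i0 : I} {par : I → I} {n : ℕ} (hP : Par M i0 par n) (h4 : ∀ i j, M i j ≠ 4)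
    (h6 : ∀ i j, M i j ≠ 6) : Frm cs h (bf A) := T5Lat.frm cs h h4 h6 fun {_} i j => hP.len cs h i j

end Cfsg.Agent.H897.T5Conn
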