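import Cfsg.Agent.H897.Tor
import Cfsg.Agent.S1093

/-!
# Centralisers of elements of the torus (S5740)
-/

set_option autoImplicit false
set_option linter.unusedSectionVars false

namespace Cfsg.Agent.H897.Cen

open CoxeterSystem Cfsg Cfsg.Lie Cfsg.Agent.ChevalleyStructure Cfsg.Agent.ChevalleyStructure.Elts
  Cfsg.Agent.ChevalleyStructure.CoxeterGeom Cfsg.Agent.ChevalleyStructure.CoxeterGeomTypes
  Cfsg.Agent.ChevalleyStructure.NPerm Cfsg.Agent.Tits.Roots
  Cfsg.Agent.Tits.Core Cfsg.Agent.Nodes.Reps Cfsg.Agent.Nodes.Bruhat Cfsg.Agent.Nodes.OppDec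
  Cfsg.Agent.Nodes.NormalForm Cfsg.Agent.Nodes.SubComb
  Cfsg.Agent.Nodes.BNOf Cfsg.Agent.Nodes.RGDChev Cfsg.Agent.KFacts.RgdField Cfsg.Agent.KFacts.RgdChevCoord
  Cfsg.Agent.LangThm Cfsg.Agent.BpExc.Fr Cfsg.Agent.BpExc.LangFr Cfsg.Agent.BpExc.Tow Cfsg.Agent.BpExc.TowChev
  Cfsg.Agent.BpExc.TorCent Cfsg.Agent.H897.Lat Cfsg.Agent.H897.Sg Cfsg.Agent.H897.Tor

universe u v

section Gen

variable {I W Y : Type*} [Fintype I] [DecidableEq I] [Group W] [Finite W] [Group Y] {M : CoxeterMatrix I}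
  {cs : CoxeterSystem M W} {A : I → I → ℤ} {h : IsCartan M A} {r : ℕ}
  {J : Type*} [Preorder J] {T : J → Subgroup Y} {n : I → Y} {X : J → (I → ℤ) → Subgroup Y}
  (H : Tow cs h r T n X) {F : Type*} [Field F] {xx : (I → ℤ) → F → Y} {χ : (I → ℤ) → Y → F}
  (C : Coords cs h (TL T) n (XL X) xx χ)

include H C

/-- `k` representing `w` commutes with `s`: `w` preserves the character of `s`. -/
theorem chi_fix {w : W} {k s : Y} (hk : Rp cs H.nsys w k) (hs : s ∈ TL T) (e : k * s = s * k) {a : I → ℤ}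
    (ha : IsRoot cs h a) : χ (rep cs h w a) s = χ a s := by
  have h1 := C.chi_rp H.nsys hk ha hs
  rwa [e, mul_inv_cancel_right] at h1

/-- **The centraliser of a regular set of elements of exponent `p` prime to `|W|`.** -/
theorem mem_T_of_regular (hA : ChAdd cs h (TL T) χ) (hG : GG cs h (TL T) (XL X) = ⊤) {p : ℕ} (hp : p.Prime)
    (hW : ¬ p ∣ Nat.card W) {S : Set Y} (hfin : S.Finite) (hS : S ⊆ TL T)
    (hSp : ∀ s ∈ S, ∀ a, IsRoot cs h a → χ a s ^ p = 1) (hreg : ∀ a, IsRoot cs h a → ∃ s ∈ S, χ a s ≠ 1) {c : Y}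
    (hc : ∀ s ∈ S, c * s = s * c) : c ∈ TL T := by
  have := hfin.to_subtype
  obtain ⟨j1, h1⟩ := H.exists_level (S := fun j => (T j : Set Y)) (fun a b hab => H.monoT hab)
    (f := fun s : S => (s : Y)) (fun s => H.mem_TL.1 (hS s.2))
  obtain ⟨j2, h2⟩ := H.mem_GG.1 (show c ∈ GG cs h (TL T) (XL X) by rw [hG]; exact Subgroup.mem_top c)
  obtain ⟨j, hj1, hj2⟩ := H.dir j1 j2
  have hST : S ⊆ T j := fun s hs => H.monoT hj1 (h1 ⟨s, hs⟩)
  have hcent : c ∈ Subgroup.centralizer S := Subgroup.mem_centralizer_iff.2 fun s hs => (hc s hs).symm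
  obtain ⟨u, hu, w, k, hk, hkc, v, hv, e⟩ := mem_centralizer (H.rgd j) hST (H.mono_GG hj2 h2) hcent
  have hbot : RGD.Sup (fun x => X j x ⊓ Subgroup.centralizer S) (RGD.Pos cs h) = ⊥ := by
    rw [eq_bot_iff]
    refine RGD.Sup_le fun a ha => ?_
    rintro y ⟨hy, hyc⟩
    rw [Subgroup.mem_bot]
    by_contra hne
    obtain ⟨s, hs, hs1⟩ := hreg a ha.1
    refine hs1 (mem_Sx_of_centralizer C (hS hs) ha.1 (le_XL j a hy) hne ?_).2
    rw [Subgroup.mem_centralizer_singleton_iff]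
    exact (Subgroup.mem_centralizer_iff.1 hyc s hs).symm
  rw [hbot, Subgroup.mem_bot] at hu hv
  have hkL := H.rp_up hk
  have hcom : ∀ s ∈ S, k * s = s * k := fun s hs => (Subgroup.mem_centralizer_iff.1 hkc s hs).symm
  have hw : w = 1 := by
    by_contra hw1
    obtain ⟨a, ha, hsum⟩ := Cfsg.Agent.BpExc.Fix.exists_root_sum_eq_zero (cs := cs) (h := h) hw1 (orderOf_pos w)
      (pow_orderOf_eq_one w)
    obtain ⟨s, hs, hs1⟩ := hreg a ha
    apply hs1
    obtain ⟨φ, h0, hadd, hφ⟩ := hA s (hS hs)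
    have hfix : ∀ m : ℕ, φ (rep cs h (w ^ m) a) = φ a := by
      intro m
      induction m with
      | zero => rw [pow_zero, map_one, Module.End.one_apply]
      | succ m ih =>
        rw [pow_succ', rep_mul_apply, ← hφ _ ((ha.act _).act w), chi_fix H C hkL (hS hs) (hcom s hs) (ha.act _),
          hφ _ (ha.act _), ih]
    have h3 : ∀ m : ℕ, φ (∑ i ∈ Finset.range m, rep cs h (w ^ i) a) = φ a ^ m := by
      intro m
      induction m with
      | zero => rw [Finset.sum_range_zero, h0, pow_zero]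
      | succ m ih => rw [Finset.sum_range_succ, hadd, ih, hfix, pow_succ]
    have h4 : φ a ^ orderOf w = 1 := by rw [← h3, hsum, h0]
    have h5 : φ a ^ p = 1 := by rw [← hφ a ha]; exact hSp s hs a ha
    rw [hφ a ha]
    have h6 : (orderOf w).Coprime p := by
      rw [Nat.coprime_comm, hp.coprime_iff_not_dvd]
      exact fun hd => hW (hd.trans (orderOf_dvd_natCard w))
    have h7 := Nat.dvd_gcd (orderOf_dvd_of_pow_eq_one h4) (orderOf_dvd_of_pow_eq_one h5)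
    rw [h6, Nat.dvd_one] at h7
    exact orderOf_eq_one_iff.1 h7
  subst hw
  rw [e, hu, hv, one_mul, mul_one]
  exact hkL.mem_of_one

/-- the reflections of roots of `S` are represented in `⟨X_a : a ∈ S⟩` -/
theorem exists_rfl_Sup {S : Set (I → ℤ)} {a : I → ℤ} (hr : IsRoot cs h a) (ha : a ∈ S) (hna : -a ∈ S) :
    ∃ w i, a = rep cs h w (sr i) ∧ ∃ m ∈ RGD.Sup (XL X) S, Rp cs H.nsys (rfl' cs w i) m := by
  obtain ⟨w, i, hw⟩ := id hr
  refine ⟨w, i, hw, ?_⟩
  obtain ⟨j⟩ := H.ne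
  obtain ⟨m, hm, hm'⟩ := Cfsg.Agent.BpExc.TorCent.exists_rfl (H.rgd j) w i
  rw [← hw] at hm
  have h3 : (X j a ⊔ X j (-a)) ≤ RGD.Sup (XL X) S :=
    sup_le ((le_XL j a).trans (RGD.le_Sup ha)) ((le_XL j _).trans (RGD.le_Sup hna))
  have hTn : T j ≤ Subgroup.normalizer ((X j a ⊔ X j (-a) : Subgroup Y) : Set Y) := by
    intro s hs
    rw [mem_normalizer_iff_cj, cj_sup, (H.rgd j).tor a hr s hs, (H.rgd j).tor (-a) hr.neg s hs]
  have h4 : m ∈ ((T j ⊔ (X j a ⊔ X j (-a)) : Subgroup Y) : Set Y) := hm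
  rw [Subgroup.coe_mul_of_left_le_normalizer_right _ _ hTn, Set.mem_mul] at h4
  obtain ⟨s, hs, u, hu, e⟩ := h4
  refine ⟨u, h3 hu, H.rp_up (j := j) ?_⟩
  have h5 := (rp_of_mem (cs := cs) (hN := (H.rgd j).nsys) (inv_mem hs)).mul hm'
  rw [one_mul] at h5
  have h6 : s⁻¹ * m = u := by rw [← e]; group
  rwa [h6] at h5

/-- **The centraliser of an element of exponent `p` prime to `|W|`.** -/
theorem cent_form (hA : ChAdd cs h (TL T) χ) (hG : GG cs h (TL T) (XL X) = ⊤) {p : ℕ} (hp : p.Prime)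
    (hW : ¬ p ∣ Nat.card W) {t : Y} (ht : t ∈ TL T) (htp : ∀ a, IsRoot cs h a → χ a t ^ p = 1) {c : Y}
    (hc : c * t = t * c) : ∃ m ∈ MM cs h (XL X) χ t, ∃ s ∈ TL T, c = m * s := by
  obtain ⟨m, hm, w, k, hk, hkt, e⟩ := Cfsg.Agent.BpExc.Fr.exists_form H C ht ht
    (c := c) (by rw [hG]; exact Subgroup.mem_top _) hc
  let V : Subgroup W :=
    { carrier := {v | ∃ m ∈ MM cs h (XL X) χ t, Rp cs H.nsys v m}
      one_mem' := ⟨1, one_mem _, rp_one⟩
      mul_mem' := by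
        rintro a b ⟨m, hm, hm'⟩ ⟨m', hm1, hm2⟩
        exact ⟨m * m', mul_mem hm hm1, hm'.mul hm2⟩
      inv_mem' := by
        rintro a ⟨m, hm, hm'⟩
        exact ⟨m⁻¹, inv_mem hm, hm'.inv⟩ }
  obtain ⟨v, ⟨m₁, hm₁, hv⟩, hpos⟩ := Cfsg.Agent.BpExc.TorCent.exists_adjust (cs := cs) (h := h) (Sx cs h χ t) V
    (fun a ha => exists_rfl_Sup H C ha.1 ha (chi_neg C ht hA ha)) w
  have hm₁t : m₁ * t = t * m₁ := by
    have := MM_le_centralizer C ht hm₁
    rw [Subgroup.mem_centralizer_singleton_iff] at this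
    exact this
  have hkm : Rp cs H.nsys (w * v) (k * m₁) := hk.mul hv
  have hkmt : k * m₁ * t = t * (k * m₁) := by rw [mul_assoc, hm₁t, ← mul_assoc, hkt, mul_assoc]
  have hPP : w * v ∈ PP cs h χ t := mem_PP.2 ⟨fun a ha => chi_fix H C hkm ht hkmt ha, hpos⟩
  have h1 : w * v = 1 := by
    have hpg := isPGroup_PP (cs := cs) (h := h) hA ht hp htp
    obtain ⟨j, hj⟩ := hpg ⟨w * v, hPP⟩
    have hj' : (w * v) ^ p ^ j = 1 := congrArg Subtype.val hj
    have h6 : (Nat.card W).Coprime (p ^ j) := by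
      apply Nat.Coprime.pow_right
      rw [Nat.coprime_comm, hp.coprime_iff_not_dvd]
      exact hW
    have h7 := Nat.dvd_gcd (orderOf_dvd_natCard (w * v)) (orderOf_dvd_of_pow_eq_one hj')
    rw [h6, Nat.dvd_one] at h7
    exact orderOf_eq_one_iff.1 h7
  rw [h1] at hkm
  have hs := hkm.mem_of_one
  have hn := H.T_le_normalizer (S := Sx cs h χ t) (fun a ha => ha.1) hs
  refine ⟨m * (k * m₁ * m₁⁻¹ * (k * m₁)⁻¹), mul_mem hm ((Subgroup.mem_normalizer_iff.1 hn _).1 (inv_mem hm₁)),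
    k * m₁, hs, ?_⟩
  rw [e]
  group

omit C [Finite W] in
/-- the elements of the torus have odd order -/
theorem exists_odd {s : Y} (hs : s ∈ TL T) : ∃ m : ℕ, m.Coprime r ∧ s ^ m = 1 := by
  obtain ⟨j, hj⟩ := H.mem_TL.1 hs
  refine ⟨Nat.card (T j), (H.rgd j).tcop, ?_⟩
  have := pow_card_eq_one' (x := (⟨s, hj⟩ : T j))
  exact congrArg Subtype.val this

end Gen

section E6

variable {k : Type u} [Field k] (hk : LocFin k) [CharP k 2] [IsAlgClosed k]

/-- the Coxeter system -/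
abbrev cs0 : CoxeterSystem CoxeterMatrix.E₆ CoxeterMatrix.E₆.Group := CoxeterMatrix.E₆.toCoxeterSystem

/-- the order of the Weyl group -/
theorem card_W : Nat.card CoxeterMatrix.E₆.Group = 51840 :=
  Cfsg.Agent.S1093.result ⟨⟨6, CoxeterMatrix.E₆⟩, 51840⟩ (by simp)

instance finite_W0 : Finite CoxeterMatrix.E₆.Group := finite_W hp cs0

theorem root0 (a : V) : IsRoot cs0 hp.isCartan a ↔ a ∈ rootList := isRoot_iff' cs0 a

include hk in
theorem mem_X {a : V} (ha : a ∈ rootList) {y : ↥(chevE6.group k)} :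
    y ∈ XL (Xj hp) a ↔ ∃ s : k, xc hp a s = y := ((co cs0 hk).coord a ((root0 a).2 ha)).mem y

/-- root elements commute when the form is not negative -/
theorem comm_xc {a b : V} (ha : a ∈ rootList) (hb : b ∈ rootList) (hab : 0 ≤ bil a b) (s t : k) :
    xc hp a s * xc hp b t = xc hp b t * xc hp a s := by
  obtain ⟨r, hr⟩ := mem_vec a ha
  obtain ⟨q, hq⟩ := mem_vec b hb
  subst hr
  subst hq
  have hrn : r.val < chevE6.nroots := by rw [nroots_eq]; exact r.2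
  have hqn : q.val < chevE6.nroots := by rw [nroots_eq]; exact q.2
  apply Subtype.ext
  rw [Subgroup.coe_mul, Subgroup.coe_mul, coe_xc hp hrn, coe_xc hp hqn]
  by_cases he : q = r
  · subst he
    rw [xG_add, xG_add, add_comm]
  · obtain ⟨h1, h2⟩ := comm_vec r q hab he
    exact Cfsg.Agent.Nodes.RGDFold.commute_of_nil hp hrn hqn (fun h => he (Fin.ext h)) h1 h2 s t

include hk in
theorem comm_Sup {S S' : Set V} (hS : ∀ a ∈ S, a ∈ rootList) (hS' : ∀ a ∈ S', a ∈ rootList)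
    (h : ∀ a ∈ S, ∀ b ∈ S', 0 ≤ bil a b) {y z : ↥(chevE6.group k)} (hy : y ∈ RGD.Sup (XL (Xj hp)) S)
    (hz : z ∈ RGD.Sup (XL (Xj hp)) S') : y * z = z * y := by
  have h1 : RGD.Sup (XL (Xj hp)) S ≤ Subgroup.centralizer
      ((RGD.Sup (XL (Xj hp (k := k))) S' : Subgroup ↥(chevE6.group k)) : Set ↥(chevE6.group k)) := by
    refine RGD.Sup_le fun a ha => ?_
    rw [Subgroup.le_centralizer_iff]
    refine RGD.Sup_le fun b hb => ?_
    intro v hv
    rw [Subgroup.mem_centralizer_iff]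
    intro u hu
    obtain ⟨s, rfl⟩ := (mem_X hk (hS a ha)).1 hu
    obtain ⟨t, rfl⟩ := (mem_X hk (hS' b hb)).1 hv
    exact comm_xc (hS a ha) (hS' b hb) (h a ha b hb) s t
  exact (Subgroup.mem_centralizer_iff.1 (h1 hy) z hz).symm

include hk in
theorem comm_tor {S : Set V} (hS : ∀ a ∈ S, a ∈ rootList) {t : ↥(chevE6.group k)} (ht : t ∈ TT chevE6 k)
    (h : ∀ a ∈ S, ch hp a t = 1) {y : ↥(chevE6.group k)} (hy : y ∈ RGD.Sup (XL (Xj hp)) S) : y * t = t * y := by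
  have h1 : RGD.Sup (XL (Xj hp)) S ≤ Subgroup.centralizer {t} := by
    refine RGD.Sup_le fun a ha => ?_
    exact X_le_centralizer (co cs0 hk) ((mem_T hk).2 ht) ⟨(root0 a).2 (hS a ha), h a ha⟩
  exact Subgroup.mem_centralizer_singleton_iff.1 (h1 hy)

include hk in
/-- **The centraliser of a regular set.** -/
theorem cent_reg {p : ℕ} (hpp : p.Prime) (hp5 : 5 < p) {S : Set ↥(chevE6.group k)} (hfin : S.Finite)
    (hS : ∀ s ∈ S, s ∈ TT chevE6 k) (hSp : ∀ s ∈ S, s ^ p = 1) (hreg : ∀ a ∈ rootList, ∃ s ∈ S, ch hp a s ≠ 1)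
    {c : ↥(chevE6.group k)} (hc : ∀ s ∈ S, c * s = s * c) : c ∈ TT chevE6 k := by
  rw [← mem_T hk]
  refine mem_T_of_regular (tw cs0 hk) (co cs0 hk) (chA cs0 hk) (gg_top cs0 hk) hpp ?_ hfin
    (fun s hs => (mem_T hk).2 (hS s hs)) (fun s hs a ha => ?_) (fun a ha => hreg a ((root0 a).1 ha)) hc
  · rw [card_W]
    intro hd
    have h1 : (51840 : ℕ) = 2 ^ 7 * 3 ^ 4 * 5 := by norm_num
    rw [h1, hpp.dvd_mul, hpp.dvd_mul] at hd
    rcases hd with (hd | hd) | hd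
    · have := Nat.le_of_dvd (by norm_num) (hpp.dvd_of_dvd_pow hd); omega
    · have := Nat.le_of_dvd (by norm_num) (hpp.dvd_of_dvd_pow hd); omega
    · have := Nat.le_of_dvd (by norm_num) hd; omega
  · rw [← ch_pow hk (hS s hs) ((root0 a).1 ha), hSp s hs, ch_one hk ((root0 a).1 ha)]

include hk in
/-- **Involutions commuting with an element of prime order of the torus.** -/
theorem cent_inv {p : ℕ} (hpp : p.Prime) (hp5 : 5 < p) {t : ↥(chevE6.group k)} (ht : t ∈ TT chevE6 k)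
    (htp : t ^ p = 1) {c : ↥(chevE6.group k)} (hc : c * t = t * c) (hc2 : c ^ 2 = 1) :
    c ∈ RGD.Sup (XL (Xj hp)) {a | a ∈ rootList ∧ ch hp a t = 1} := by
  obtain ⟨m, hm, s, hs, e⟩ := cent_form (tw cs0 hk) (co cs0 hk) (chA cs0 hk) (gg_top cs0 hk) hpp
    (by
      rw [card_W]
      intro hd
      have h1 : (51840 : ℕ) = 2 ^ 7 * 3 ^ 4 * 5 := by norm_num
      rw [h1, hpp.dvd_mul, hpp.dvd_mul] at hd
      rcases hd with (hd | hd) | hd
      · have := Nat.le_of_dvd (by norm_num) (hpp.dvd_of_dvd_pow hd); omega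
      · have := Nat.le_of_dvd (by norm_num) (hpp.dvd_of_dvd_pow hd); omega
      · have := Nat.le_of_dvd (by norm_num) hd; omega) ((mem_T hk).2 ht)
    (fun a ha => by rw [← ch_pow hk ht ((root0 a).1 ha), htp, ch_one hk ((root0 a).1 ha)]) hc
  have hSx : Sx cs0 hp.isCartan (ch hp) t = {a | a ∈ rootList ∧ ch hp a t = 1} := by
    ext a
    exact and_congr_left' (root0 a)
  rw [← hSx]
  have hn := (tw cs0 hk).T_le_normalizer (S := Sx cs0 hp.isCartan (ch hp) t) (fun a ha => ha.1) hs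
  have h2 : s ^ 2 ∈ MM cs0 hp.isCartan (XL (Xj hp)) (ch hp) t := by
    have h3 : s * m * s⁻¹ ∈ MM cs0 hp.isCartan (XL (Xj hp)) (ch hp) t :=
      (Subgroup.mem_normalizer_iff.1 hn m).1 hm
    have h4 : s ^ 2 = (m * (s * m * s⁻¹))⁻¹ * c ^ 2 := by
      rw [e, sq, sq]
      group
    rw [h4, hc2, mul_one]
    exact inv_mem (mul_mem hm h3)
  obtain ⟨j, hj, hsj⟩ := exists_odd (tw cs0 hk) hs
  have hsm : s ∈ MM cs0 hp.isCartan (XL (Xj hp)) (ch hp) t := by
    have hodd : j % 2 = 1 := by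
      rw [Nat.coprime_two_right] at hj
      exact Nat.odd_iff.1 hj
    have h5 : s = (s ^ 2) ^ ((j + 1) / 2) := by
      rw [← pow_mul, show 2 * ((j + 1) / 2) = j + 1 by omega, pow_succ, hsj, one_mul]
    rw [h5]
    exact pow_mem h2 _
  rw [e]
  exact mul_mem hm hsm

end E6

end Cfsg.Agent.H897.Cen
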