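import Mathlib
import Cfsg.Agent.H897.T5Sub

/-!
# The reduction to a subgroup `K = [A^σ, A^σ]`, abstract form (T5)

`Y` is the ambient group with the automorphism `σ`, `S` is embedded in the fixed points by `ι`, `A` is a subgroup of
`Y` and `K ≤ S` a perfect subgroup with `ι K = [A^σ, A^σ]`.
`red_of` : if all elements of order `p` of `Y^σ` have a conjugate in `Y^σ` normalising `A` and not centralising `ι K`,
then `Red p K` for the group `S`.
-/

set_option autoImplicit false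
set_option linter.unusedSectionVars false

namespace Cfsg.Agent.H897.T5Box

open Subgroup Cfsg.Agent.H897.T5Sub
open scoped commutatorElement

variable {Y S : Type*} [Group Y] [Group S] (ι : S →* Y) (σ : MulAut Y) (A : Subgroup Y) (K : Subgroup S)

/-- `ι K` is the commutator subgroup of the fixed points in `A`. -/
structure Box : Prop where
  inj : Function.Injective ι
  fix : ∀ s, σ (ι s) = ι s
  sub : ∀ s ∈ K, ι s ∈ A
  perf : ⁅K, K⁆ = K
  comm : ∀ a ∈ A, ∀ b ∈ A, σ a = a → σ b = b → ∃ s ∈ K, ι s = ⁅a, b⁆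

/-- `α` preserves the fixed points and `A`. -/
structure Pres (α : MulAut Y) : Prop where
  fix : ∀ y, σ y = y → σ (α y) = α y
  A : ∀ y, y ∈ A → α y ∈ A

variable {ι σ A K}

theorem Pres.mul {α β : MulAut Y} (h : Pres σ A α) (h' : Pres σ A β) : Pres σ A (α * β) :=
  ⟨fun y hy => h.fix _ (h'.fix y hy), fun y hy => h.A _ (h'.A y hy)⟩

theorem Pres.conj {x : Y} (hx : σ x = x) (hA : ∀ y ∈ A, x * y * x⁻¹ ∈ A) : Pres σ A (MulAut.conj x) :=
  ⟨fun y hy => by rw [MulAut.conj_apply, map_mul, map_mul, map_inv, hx, hy], hA⟩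

/-- `α` maps `ι K` to itself. -/
theorem Box.img (B : Box ι σ A K) {α : MulAut Y} (P : Pres σ A α) {s : S} (hs : s ∈ K) :
    ∃ s' ∈ K, ι s' = α (ι s) := by
  have h1 : K ≤ ((K.map ι).comap α.toMonoidHom).comap ι := by
    rw [← B.perf, commutator_le]
    intro a ha b hb
    rw [mem_comap, mem_comap]
    have h2 : α.toMonoidHom (ι ⁅a, b⁆) = ⁅α (ι a), α (ι b)⁆ := by
      rw [map_commutatorElement]
      exact map_commutatorElement α _ _
    rw [h2]
    obtain ⟨s', hs', h3⟩ := B.comm _ (P.A _ (B.sub a ha)) _ (P.A _ (B.sub b hb)) (P.fix _ (B.fix a))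
      (P.fix _ (B.fix b))
    rw [B.perf]
    exact ⟨s', hs', h3⟩
  obtain ⟨s', hs', h⟩ := h1 hs
  exact ⟨s', hs', h⟩

theorem Box.mem_of_mem (B : Box ι σ A K) {α : MulAut Y} (P : Pres σ A α) {c : MulAut S}
    (h : ∀ s, ι (c s) = α (ι s)) {s : S} (hs : s ∈ K) : c s ∈ K := by
  obtain ⟨s', hs', h1⟩ := B.img P hs
  rw [← h] at h1
  rwa [← B.inj h1]

/-- an automorphism of finite order preserving `K` in one direction -/
theorem iff_of_pow {c : MulAut S} {n : ℕ} (hn : 0 < n) (hc : c ^ n = 1) (h : ∀ s ∈ K, c s ∈ K) (s : S) :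
    c s ∈ K ↔ s ∈ K := by
  refine ⟨fun hs => ?_, h s⟩
  have h1 : ∀ m : ℕ, ∀ s ∈ K, (c ^ m) s ∈ K := by
    intro m
    induction m with
    | zero => intro s hs; rw [pow_zero]; exact hs
    | succ m ih => intro s hs; rw [pow_succ', MulAut.mul_apply]; exact h _ (ih s hs)
  have h2 := h1 (n - 1) _ hs
  have h3 : (c ^ (n - 1)) (c s) = s := by
    rw [← MulAut.mul_apply, ← pow_succ, Nat.sub_add_cancel hn, hc, MulAut.one_apply]
  rwa [h3] at h2

/-- Standard outer automorphisms. -/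
structure Std (ι : S →* Y) (σ : MulAut Y) (A T : Subgroup Y) (K : Subgroup S) (p : ℕ) (φ : MulAut Y) : Prop where
  pow : φ ^ p = σ
  A : ∀ y, y ∈ A → φ y ∈ A
  lang : ∀ y : Y, ∃ z, y = z⁻¹ * φ z
  ne : ∀ t ∈ T, σ t = t → ∃ s ∈ K, t⁻¹ * φ (t * ι s * t⁻¹) * t ≠ ι s

theorem comm_pow {φ σ : MulAut Y} {p : ℕ} (h : φ ^ p = σ) (y : Y) : σ (φ y) = φ (σ y) := by
  rw [← h, ← MulAut.mul_apply, ← MulAut.mul_apply, ← pow_succ, ← pow_succ']

/-- **The reduction.** -/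
theorem red_of (B : Box ι σ A K) {T : Subgroup Y} (hT : ∀ t ∈ T, ∀ y ∈ A, t * y * t⁻¹ ∈ A)
    (hsplit : ∀ y, σ y = y → ∃ g : S, ∃ t ∈ T, y = t * ι g) (hZ : center Y = ⊥) {p : ℕ} (hp : p.Prime)
    (hinner : ∀ x, σ x = x → x ^ p = 1 → x ≠ 1 → ∃ y, σ y = y ∧ (∀ u ∈ A, (y * x * y⁻¹) * u * (y * x * y⁻¹)⁻¹ ∈ A) ∧
      ∃ s ∈ K, (y * x * y⁻¹) * ι s ≠ ι s * (y * x * y⁻¹))
    (hcases : ∀ c : MulAut S, orderOf c = p →
      (∃ y, y ^ p = 1 ∧ σ y = y ∧ ∀ s, ι (c s) = y * ι s * y⁻¹) ∨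
      ∃ (i : ℕ) (φ : MulAut Y) (y : Y), i.Coprime p ∧ Std ι σ A T K p φ ∧ (MulAut.conj y * φ) ^ p = σ ∧
        ∀ s, ι ((c ^ i) s) = (MulAut.conj y * φ) (ι s)) : Red p K := by
  intro c hc
  have hcp : c ^ p = 1 := by rw [← hc, pow_orderOf_eq_one]
  have hc1 : c ≠ 1 := by
    rintro rfl
    rw [orderOf_one] at hc
    exact hp.one_lt.ne hc
  rcases hcases c hc with ⟨x, hxp, hσx, hx⟩ | ⟨i, φ, y, hi, hstd, hyp, hy⟩
  · -- inner-diagonal
    have hx1 : x ≠ 1 := by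
      rintro rfl
      apply hc1
      ext s
      apply B.inj
      rw [hx, one_mul, inv_one, mul_one, MulAut.one_apply]
    obtain ⟨y, hσy, h1, s0, hs0, h2⟩ := hinner x hσx hxp hx1
    obtain ⟨g, t, ht, hyt⟩ := hsplit y hσy
    have hσt : σ t = t := by
      have h3 : t = y * (ι g)⁻¹ := by rw [hyt]; group
      rw [h3, map_mul, map_inv, hσy, B.fix]
    have hPt : Pres σ A (MulAut.conj t) := Pres.conj hσt (hT t ht)
    have hPt' : Pres σ A (MulAut.conj t⁻¹) := Pres.conj (by rw [map_inv, hσt]) (hT _ (inv_mem ht))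
    have hPx : Pres σ A (MulAut.conj (y * x * y⁻¹)) := Pres.conj (by rw [map_mul, map_mul, map_inv, hσy, hσx]) h1
    have hP := hPt'.mul (hPx.mul hPt)
    have hact : ∀ s, ι ((MulAut.conj g * c * (MulAut.conj g)⁻¹) s) =
        (MulAut.conj t⁻¹ * (MulAut.conj (y * x * y⁻¹) * MulAut.conj t)) (ι s) := by
      intro s
      have e1 : (MulAut.conj g)⁻¹ s = g⁻¹ * s * g := by
        rw [← map_inv, MulAut.conj_apply, inv_inv]
      show ι (g * c ((MulAut.conj g)⁻¹ s) * g⁻¹) = t⁻¹ * ((y * x * y⁻¹) * (t * ι s * t⁻¹) * (y * x * y⁻¹)⁻¹) * t⁻¹⁻¹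
      rw [e1, map_mul, map_mul, hx, map_mul, map_mul, map_inv, hyt]
      group
    refine ⟨MulAut.conj g, ⟨g, rfl⟩, iff_of_pow hp.pos (by rw [conj_pow, hcp, mul_one, mul_inv_cancel])
      (fun s hs => B.mem_of_mem hP hact hs), ?_⟩
    by_contra hcon
    push Not at hcon
    apply h2
    obtain ⟨s', hs', h3⟩ := B.img hPt' hs0
    have h4 := congrArg ι (hcon s' hs')
    rw [hact, h3] at h4
    have h5 : t⁻¹ * ((y * x * y⁻¹) * (t * (t⁻¹ * ι s0 * t⁻¹⁻¹) * t⁻¹) * (y * x * y⁻¹)⁻¹) * t⁻¹⁻¹ =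
        t⁻¹ * ι s0 * t⁻¹⁻¹ := h4
    have h6 : (y * x * y⁻¹) * ι s0 * (y * x * y⁻¹)⁻¹ = ι s0 := by
      have h7 : t * (t⁻¹ * ((y * x * y⁻¹) * (t * (t⁻¹ * ι s0 * t⁻¹⁻¹) * t⁻¹) * (y * x * y⁻¹)⁻¹) * t⁻¹⁻¹) * t⁻¹ =
          t * (t⁻¹ * ι s0 * t⁻¹⁻¹) * t⁻¹ := by rw [h5]
      have h8 : t * (t⁻¹ * ((y * x * y⁻¹) * (t * (t⁻¹ * ι s0 * t⁻¹⁻¹) * t⁻¹) * (y * x * y⁻¹)⁻¹) * t⁻¹⁻¹) * t⁻¹ =
          (y * x * y⁻¹) * ι s0 * (y * x * y⁻¹)⁻¹ := by group
      have h9 : t * (t⁻¹ * ι s0 * t⁻¹⁻¹) * t⁻¹ = ι s0 := by group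
      rw [h8, h9] at h7
      exact h7
    rw [← mul_inv_eq_iff_eq_mul]
    exact h6
  · -- field type
    obtain ⟨z, hz⟩ := hstd.lang y
    have hconj : MulAut.conj y * φ = (MulAut.conj z)⁻¹ * φ * MulAut.conj z := by
      apply MulEquiv.ext
      intro u
      have e1 : (MulAut.conj z)⁻¹ = MulAut.conj z⁻¹ := (map_inv MulAut.conj z).symm
      rw [e1]
      show y * φ u * y⁻¹ = z⁻¹ * φ (z * u * z⁻¹) * z⁻¹⁻¹
      rw [hz, map_mul, map_mul, map_inv]
      group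
    have hσz : σ z = z := by
      have h1 : (MulAut.conj z)⁻¹ * σ * MulAut.conj z = σ := by
        have h2 : ((MulAut.conj z)⁻¹ * φ * MulAut.conj z) ^ p = (MulAut.conj z)⁻¹ * φ ^ p * MulAut.conj z := by
          have h3 := conj_pow (i := p) (a := (MulAut.conj z)⁻¹) (b := φ)
          rwa [inv_inv] at h3
        rw [← hconj, hyp, hstd.pow] at h2
        exact h2.symm
      have h2 : σ * MulAut.conj z = MulAut.conj z * σ := by
        calc σ * MulAut.conj z = MulAut.conj z * ((MulAut.conj z)⁻¹ * σ * MulAut.conj z) := by group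
          _ = MulAut.conj z * σ := by rw [h1]
      have h3 : z⁻¹ * σ z ∈ center Y := by
        rw [mem_center_iff]
        intro u
        have h4 := congrArg (fun f : MulAut Y => f (σ⁻¹ u)) h2
        have h5 : σ (z * σ⁻¹ u * z⁻¹) = z * σ (σ⁻¹ u) * z⁻¹ := h4
        rw [map_mul, map_mul, map_inv, MulAut.apply_inv_self] at h5
        calc u * (z⁻¹ * σ z) = z⁻¹ * (z * u * z⁻¹) * σ z := by group
          _ = z⁻¹ * (σ z * u * (σ z)⁻¹) * σ z := by rw [h5]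
          _ = z⁻¹ * σ z * u := by group
      rw [hZ, mem_bot, inv_mul_eq_one] at h3
      exact h3.symm
    obtain ⟨g, t, ht, hzt⟩ := hsplit z hσz
    have hσt : σ t = t := by
      have h3 : t = z * (ι g)⁻¹ := by rw [hzt]; group
      rw [h3, map_mul, map_inv, hσz, B.fix]
    have hPt : Pres σ A (MulAut.conj t) := Pres.conj hσt (hT t ht)
    have hPt' : Pres σ A (MulAut.conj t⁻¹) := Pres.conj (by rw [map_inv, hσt]) (hT _ (inv_mem ht))
    have hPφ : Pres σ A φ := ⟨fun u hu => by rw [comm_pow hstd.pow, hu], hstd.A⟩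
    have hP := hPt'.mul (hPφ.mul hPt)
    have hact : ∀ s, ι ((MulAut.conj g * c ^ i * (MulAut.conj g)⁻¹) s) =
        (MulAut.conj t⁻¹ * (φ * MulAut.conj t)) (ι s) := by
      intro s
      have e1 : (MulAut.conj g)⁻¹ s = g⁻¹ * s * g := by
        rw [← map_inv, MulAut.conj_apply, inv_inv]
      show ι (g * (c ^ i) ((MulAut.conj g)⁻¹ s) * g⁻¹) = t⁻¹ * (φ (t * ι s * t⁻¹)) * t⁻¹⁻¹
      rw [e1, map_mul, map_mul, hy]
      show ι g * (y * φ (ι (g⁻¹ * s * g)) * y⁻¹) * ι g⁻¹ = _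
      rw [hz, hzt, map_mul, map_mul, map_mul, map_mul, map_mul, map_mul, map_mul, map_inv, map_inv, map_inv]
      group
    have hpow : MulAut.conj g * c ^ i * (MulAut.conj g)⁻¹ = (MulAut.conj g * c * (MulAut.conj g)⁻¹) ^ i :=
      (conj_pow).symm
    have hc'p : (MulAut.conj g * c * (MulAut.conj g)⁻¹) ^ p = 1 := by
      rw [conj_pow, hcp, mul_one, mul_inv_cancel]
    refine ⟨MulAut.conj g, ⟨g, rfl⟩, iff_of_pow hp.pos hc'p ?_, ?_⟩
    · -- a power of the power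
      obtain ⟨j, -, hj⟩ := Nat.exists_mul_mod_eq_one_of_coprime hi hp.one_lt
      have h1 : MulAut.conj g * c * (MulAut.conj g)⁻¹ = (MulAut.conj g * c ^ i * (MulAut.conj g)⁻¹) ^ j := by
        rw [hpow, ← pow_mul, ← Nat.div_add_mod (i * j) p, pow_add, pow_mul, hc'p, one_pow, one_mul, hj, pow_one]
      rw [h1]
      have h2 : ∀ m : ℕ, ∀ s ∈ K, ((MulAut.conj g * c ^ i * (MulAut.conj g)⁻¹) ^ m) s ∈ K := by
        intro m
        induction m with
        | zero => intro s hs; rw [pow_zero]; exact hs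
        | succ m ih => intro s hs; rw [pow_succ', MulAut.mul_apply]; exact B.mem_of_mem hP hact (ih s hs)
      exact h2 j
    · obtain ⟨s, hs, h1⟩ := hstd.ne t ht hσt
      refine ⟨s, hs, fun h2 => h1 ?_⟩
      have h3 : ∀ m : ℕ, ((MulAut.conj g * c * (MulAut.conj g)⁻¹) ^ m) s = s := by
        intro m
        induction m with
        | zero => rw [pow_zero, MulAut.one_apply]
        | succ m ih => rw [pow_succ, MulAut.mul_apply, h2, ih]
      have h4 := hact s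
      rw [hpow, h3] at h4
      have h5 : ι s = t⁻¹ * φ (t * ι s * t⁻¹) * t⁻¹⁻¹ := h4
      rw [inv_inv] at h5
      exact h5.symm

end Cfsg.Agent.H897.T5Box
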