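import Mathlib
import Cfsg.Agent.H897.T5Lat
import Cfsg.Agent.H795.SetTor
import Cfsg.Agent.H720.TorusReal

/-!
# Elements of prime order of the fixed points: conjugacy to a fixed twisted torus (T5)

`Con p` : the stabilisers in `W` of the elements of order `p` of the torus are reflection groups (represented in the
groups generated by the centralised root groups).
`con_of_not_dvd`, `con_of_frm` : two criteria.
`star` : if `x = z t z⁻¹` is fixed by `σ` and `t` is fixed by `conj n₁ ∘ σ`, then `x = z₁ t z₁⁻¹` with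
`z₁⁻¹ σ(z₁) = n₁`.
-/

set_option autoImplicit false
set_option linter.unusedSectionVars false

namespace Cfsg.Agent.H897.T5Cent

open CoxeterSystem Cfsg Cfsg.Lie Cfsg.Lie.ChevalleyDatum
open Cfsg.Agent.ChevalleyStructure Cfsg.Agent.ChevalleyStructure.Elts Cfsg.Agent.ChevalleyStructure.CoxeterGeom
  Cfsg.Agent.ChevalleyStructure.CoxeterGeomTypes Cfsg.Agent.ChevalleyStructure.NPerm
open Cfsg.Agent.Tits.Roots Cfsg.Agent.Tits.Core Cfsg.Agent.Nodes Cfsg.Agent.Nodes.Reps Cfsg.Agent.Nodes.BNOf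
  Cfsg.Agent.Nodes.RGDChev Cfsg.Agent.Nodes.Bruhat Cfsg.Agent.Nodes.SubComb Cfsg.Agent.Nodes.Coroot
open Cfsg.Agent.KFacts.RgdField Cfsg.Agent.KFacts.RgdChevCoord Cfsg.Agent.BpExc.TorCent Cfsg.Agent.BpExc.TorChev
open Cfsg.Agent.GpExc.Field Cfsg.Agent.BpExc.Tow Cfsg.Agent.BpExc.TowChev Cfsg.Agent.BpExc.Fr
  Cfsg.Agent.BpExc.LangFr Cfsg.Agent.LangThm Cfsg.Agent.BpExc Cfsg.Agent.H129.TorusChar Cfsg.Agent.H129.TorusMain
open Cfsg.Agent.H795.SetCent Cfsg.Agent.H795.SetTor Cfsg.Agent.H720.TorusReal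
open Cfsg.Agent.H897.T5Lat (Frm bf bf_apply)

universe u v

variable {D : ChevalleyDatum} {l : ℕ} {M : CoxeterMatrix (Fin l)} (hp : IsType D l M) {k : Type u} [Field k]
  [IsAlgClosed k] {W : Type v} [Group W] [Finite W] (cs : CoxeterSystem M W) (hk : LocFin k) (r : ℕ) [Fact r.Prime]
  [CharP k r]

include hk r in
theorem coL : Coords cs hp.isCartan (TL (Tj hp (k := k))) (nc hp k) (XL (Xj hp)) (xc hp) (ch hp) := by
  rw [TL_eq hp hk, XL_eq hp hk]; exact coordsL hp cs hk r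

include hk r in
theorem chL : ChAdd cs hp.isCartan (TL (Tj hp (k := k))) (ch (K := k) hp) := by
  rw [TL_eq hp hk]; exact chAddL hp cs hk r

include hk in
theorem mem_TL' {t : ↥(D.group k)} : t ∈ TL (Tj hp (k := k)) ↔ t ∈ TT D k := by rw [TL_eq hp hk]

/-- The stabilisers of the elements of order `p` of the torus are generated by reflections. -/
def Con (p : ℕ) : Prop := ∀ t ∈ TT D k, t ^ p = 1 →
  CW cs hp.isCartan (ch (K := k) hp) {t} ≤ VV (tow hp cs hk r (k := k)) (ch hp) {t}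

theorem con_of_tors {p : ℕ} (hpp : p.Prime) (hW : ¬ p ^ 2 ∣ Nat.card W) (hT : Tors cs hp.isCartan p) :
    Con hp cs hk r p := by
  intro t ht htp
  refine CW_le_VV (tow hp cs hk r) (coL hp cs hk r) (chL hp cs hk r) (by
    rw [Set.singleton_subset_iff]; exact (mem_TL' hp hk).2 ht) hpp (fun s hs => ⟨1, ?_⟩) hW hT
  rw [Set.mem_singleton_iff] at hs
  rw [hs, pow_one, htp]

theorem con_of_not_dvd {p : ℕ} (hpp : p.Prime) (hW : ¬ p ∣ Nat.card W) : Con hp cs hk r p :=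
  con_of_tors hp cs hk r hpp (fun h => hW (dvd_trans (dvd_pow_self p two_ne_zero) h)) (tors_of_not_dvd hW)

/-! ### the simply laced case -/

section Char

variable {p : ℕ} (hpp : p.Prime) (hpr : p ≠ r)

include hpp hpr in
/-- a primitive root of unity -/
theorem exists_prim : ∃ ζ : k, IsPrimitiveRoot ζ p := by
  have : NeZero (p : k) := ⟨by
    intro h0
    have h1 : r ∣ p := (CharP.cast_eq_zero_iff k r p).1 h0
    exact hpr ((Nat.prime_dvd_prime_iff_eq (Fact.out : r.Prime) hpp).1 h1).symm⟩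
  have : NeZero p := ⟨hpp.ne_zero⟩
  exact HasEnoughRootsOfUnity.exists_primitiveRoot k p

variable {B : Fin l → Fin l → ℤ} {d : ℕ} (hB : InvC D l d B) (hpd : d.Coprime p)

include hpp hB hpd in
/-- **The character of an element of order `p` is the pairing with a lattice vector.** -/
theorem exists_mu {ζ : k} (hζ : IsPrimitiveRoot ζ p) {t : ↥(D.group k)} (ht : t ∈ TT D k) (htp : t ^ p = 1) :
    ∃ μ : Fin l → ℤ, ∀ x, cX hp t x = ζ ^ (bf (cartanOf D l) μ x) := by
  have hζ0 : ζ ≠ 0 := hζ.ne_zero hpp.ne_zero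
  have h1 : ∀ i : Fin l, ∃ c : ℕ, ζ ^ c = cX hp t (sr i) := by
    intro i
    have h2 : cX hp t (sr i) ^ p = 1 := by rw [← cX_pow hp ht, htp, cX_one]
    have : NeZero p := ⟨hpp.ne_zero⟩
    obtain ⟨c, -, hc⟩ := hζ.eq_pow_of_pow_eq_one h2
    exact ⟨c, hc⟩
  choose c hc using h1
  obtain ⟨u, hu⟩ : ∃ u : ℤ, (p : ℤ) ∣ u * d - 1 := by
    have h2 : IsCoprime (d : ℤ) (p : ℤ) := Nat.isCoprime_iff_coprime.2 hpd
    obtain ⟨a, b, hab⟩ := h2
    exact ⟨a, ⟨-b, by linarith⟩⟩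
  have hud : ζ ^ (u * d) = ζ := by
    obtain ⟨v, hv⟩ := hu
    have : u * d = 1 + p * v := by linarith
    rw [this, zpow_add₀ hζ0, zpow_one, zpow_mul, zpow_natCast, hζ.pow_eq_one, one_zpow, mul_one]
  refine ⟨fun i => u * ∑ m, (c m : ℤ) * B m i, fun x => ?_⟩
  have h2 : bf (cartanOf D l) (fun i => u * ∑ m, (c m : ℤ) * B m i) x = (u * d) * ∑ j, (c j : ℤ) * x j := by
    rw [bf_apply, Finset.sum_comm, Finset.mul_sum]
    refine Finset.sum_congr rfl fun j _ => ?_
    have h3 : ∀ m, ∑ i, B m i * cartanOf D l i j = if m = j then (d : ℤ) else 0 := fun m => hB m j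
    calc ∑ i, u * (∑ m, (c m : ℤ) * B m i) * cartanOf D l i j * x j
        = u * (∑ i, ∑ m, (c m : ℤ) * (B m i * cartanOf D l i j)) * x j := by
          rw [Finset.mul_sum, Finset.sum_mul]
          refine Finset.sum_congr rfl fun i _ => ?_
          have : ∑ m, (c m : ℤ) * (B m i * cartanOf D l i j) = (∑ m, (c m : ℤ) * B m i) * cartanOf D l i j := by
            rw [Finset.sum_mul]
            exact Finset.sum_congr rfl fun m _ => by ring
          rw [this]; ring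
      _ = u * (∑ m, (c m : ℤ) * ∑ i, B m i * cartanOf D l i j) * x j := by
          rw [Finset.sum_comm]
          congr 2
          refine Finset.sum_congr rfl fun m _ => ?_
          rw [Finset.mul_sum]
      _ = u * ((c j : ℤ) * d) * x j := by
          congr 2
          rw [Finset.sum_eq_single j]
          · rw [h3, if_pos rfl]
          · intro m _ hm
            rw [h3, if_neg hm, mul_zero]
          · intro hj; exact absurd (Finset.mem_univ j) hj
      _ = _ := by ring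
  rw [h2, zpow_mul, hud]
  rw [(isMC_cX hp ht).eq_prod x]
  have h3 : ∀ s : Finset (Fin l), ∏ i ∈ s, cX hp t (sr i) ^ x i = ζ ^ (∑ j ∈ s, (c j : ℤ) * x j) := by
    intro s
    classical
    induction s using Finset.induction_on with
    | empty => rw [Finset.prod_empty, Finset.sum_empty, zpow_zero]
    | insert a s ha ih =>
      rw [Finset.prod_insert ha, Finset.sum_insert ha, ih, zpow_add₀ hζ0, ← hc a, ← zpow_natCast, ← zpow_mul]
  exact h3 _

include hB hpd in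
/-- vectors with the same pairings modulo `p` -/
theorem sub_of_dvd (hA : ∀ i j, cartanOf D l i j = cartanOf D l j i) {ν : Fin l → ℤ}
    (h : ∀ x, (p : ℤ) ∣ bf (cartanOf D l) ν x) : ∃ l0 : Fin l → ℤ, ν = (p : ℤ) • l0 := by
  have h1 : ∀ m, (p : ℤ) ∣ ν m := by
    intro m
    have h2 : (d : ℤ) * ν m = ∑ j, B m j * bf (cartanOf D l) ν (sr j) := by
      have h3 : ∀ j, bf (cartanOf D l) ν (sr j) = ∑ i, ν i * cartanOf D l i j := by
        intro j
        rw [bf_apply]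
        refine Finset.sum_congr rfl fun i _ => ?_
        rw [Finset.sum_eq_single j]
        · rw [sr_self, mul_one]
        · intro b _ hb
          rw [sr_ne hb, mul_zero]
        · intro hj; exact absurd (Finset.mem_univ j) hj
      simp_rw [h3]
      calc (d : ℤ) * ν m = ∑ i, ν i * (if m = i then (d : ℤ) else 0) := by
            rw [Finset.sum_eq_single m]
            · rw [if_pos rfl, mul_comm]
            · intro b _ hb; rw [if_neg (Ne.symm hb), mul_zero]
            · intro hj; exact absurd (Finset.mem_univ m) hj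
        _ = ∑ i, ν i * ∑ j, B m j * cartanOf D l j i := by
            refine Finset.sum_congr rfl fun i _ => ?_
            rw [hB m i]
        _ = ∑ i, ∑ j, B m j * (ν i * cartanOf D l i j) := by
            refine Finset.sum_congr rfl fun i _ => ?_
            rw [Finset.mul_sum]
            refine Finset.sum_congr rfl fun j _ => ?_
            rw [hA i j]; ring
        _ = _ := by
            rw [Finset.sum_comm]
            refine Finset.sum_congr rfl fun j _ => ?_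
            rw [Finset.mul_sum]
    have h4 : (p : ℤ) ∣ d * ν m := by
      rw [h2]
      exact Finset.dvd_sum fun j _ => Dvd.dvd.mul_left (h _) _
    have h5 : IsCoprime (p : ℤ) (d : ℤ) := Nat.isCoprime_iff_coprime.2 hpd.symm
    exact h5.dvd_of_dvd_mul_left h4
  choose l0 hl0 using h1
  exact ⟨l0, funext fun m => by rw [Pi.smul_apply, smul_eq_mul, hl0 m]⟩

theorem dvd_sub_of_zpow {ζ : k} (hζ : IsPrimitiveRoot ζ p) (hp0 : p ≠ 0) {a b : ℤ} (h : ζ ^ a = ζ ^ b) :
    (p : ℤ) ∣ a - b := by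
  have hζ0 : ζ ≠ 0 := hζ.ne_zero hp0
  rw [← hζ.zpow_eq_one_iff_dvd, zpow_sub₀ hζ0, h, div_self (zpow_ne_zero _ hζ0)]

variable (F : Frm cs hp.isCartan (bf (cartanOf D l)))

include F in
theorem cartan_symm (i j : Fin l) : cartanOf D l i j = cartanOf D l j i := by
  have h1 : ∀ i j : Fin l, bf (cartanOf D l) (sr i) (sr j) = cartanOf D l i j := by
    intro i j
    rw [bf_apply, Finset.sum_eq_single i]
    · rw [Finset.sum_eq_single j]
      · rw [sr_self, sr_self, one_mul, mul_one]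
      · intro b _ hb; rw [sr_ne hb, mul_zero]
      · intro hj; exact absurd (Finset.mem_univ j) hj
    · intro b _ hb
      refine Finset.sum_eq_zero fun c _ => ?_
      rw [sr_ne hb, zero_mul, zero_mul]
    · intro hj; exact absurd (Finset.mem_univ i) hj
  rw [← h1 i j, ← h1 j i, F.symm]

include F hB hpd in
/-- An isometry preserving the character. -/
theorem fix_class {ζ : k} (hζ : IsPrimitiveRoot ζ p) (hp0 : p ≠ 0) {t : ↥(D.group k)} {μ : Fin l → ℤ}
    (hμ : ∀ x, cX hp t x = ζ ^ (bf (cartanOf D l) μ x)) {θ : (Fin l → ℤ) ≃+ (Fin l → ℤ)}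
    (hθ : ∀ x y, bf (cartanOf D l) (θ x) (θ y) = bf (cartanOf D l) x y) (h : ∀ x, cX hp t (θ x) = cX hp t x) :
    ∃ l0 : Fin l → ℤ, θ μ = μ - (p : ℤ) • l0 := by
  have h1 : ∀ x, (p : ℤ) ∣ bf (cartanOf D l) (μ - θ μ) x := by
    intro x
    have h2 : ζ ^ (bf (cartanOf D l) μ x) = ζ ^ (bf (cartanOf D l) (θ μ) x) := by
      have h3 := h (θ.symm x)
      rw [θ.apply_symm_apply, hμ, hμ] at h3
      rw [h3, ← hθ μ (θ.symm x), θ.apply_symm_apply]
    have h3 := dvd_sub_of_zpow hζ hp0 h2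
    rwa [map_sub, LinearMap.sub_apply]
  obtain ⟨l0, hl0⟩ := sub_of_dvd hB hpd (cartan_symm hp cs F) h1
  exact ⟨l0, by rw [← hl0]; abel⟩

include hk in
/-- the reflection group of the class of `μ` is represented in `MMZ` -/
theorem VV_le {ζ : k} (hζ : IsPrimitiveRoot ζ p) {t : ↥(D.group k)} (ht : t ∈ TT D k) {μ : Fin l → ℤ}
    (F : Frm cs hp.isCartan (bf (cartanOf D l)))
    (hμ : ∀ x, cX hp t x = ζ ^ (bf (cartanOf D l) μ x)) :
    Cfsg.Agent.H897.T5Lat.VV cs hp.isCartan p μ ≤ VV (tow hp cs hk r (k := k)) (ch hp) {t} := by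
  refine (Subgroup.closure_le _).2 ?_
  rintro _ ⟨w, i, hd, rfl⟩
  have hr : IsRoot cs hp.isCartan (rep cs hp.isCartan w (sr i)) := ⟨w, i, rfl⟩
  refine rfl_mem_VV (tow hp cs hk r) (coL hp cs hk r) (chL hp cs hk r) (by
    rw [Set.singleton_subset_iff]; exact (mem_TL' hp hk).2 ht) ⟨hr, fun s hs => ?_⟩
  rw [Set.mem_singleton_iff] at hs
  rw [hs, ← cX_root hp cs ht hr, hμ, F.cpr _ _ hr]
  obtain ⟨m, hm⟩ := hd
  rw [hm, zpow_mul, zpow_natCast, hζ.pow_eq_one, one_zpow]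

include hpp hpr hB hpd in
/-- **Simply laced groups, `p` prime to the determinant.** -/
theorem con_of_frm (F : Frm cs hp.isCartan (bf (cartanOf D l))) : Con hp cs hk r p := by
  intro t ht htp w hw
  obtain ⟨ζ, hζ⟩ := exists_prim (k := k) r hpp hpr
  obtain ⟨μ, hμ⟩ := exists_mu hp hpp hB hpd hζ ht htp
  have h1 : ∀ x, cX hp t (repAut cs hp.isCartan w x) = cX hp t x := by
    have h2 : IsMC fun x => cX hp t (repAut cs hp.isCartan w x) :=
      (isMC_cX hp ht).comp (repAut cs hp.isCartan w).toAddMonoidHom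
    refine fun x => h2.ext (isMC_cX hp ht) (fun i => ?_) x
    show cX hp t (rep cs hp.isCartan w (sr i)) = _
    rw [cX_root hp cs ht ((isRoot_sr cs hp.isCartan i).act w), cX_root hp cs ht (isRoot_sr cs hp.isCartan i)]
    exact hw _ (isRoot_sr cs hp.isCartan i) t rfl
  obtain ⟨l0, hl0⟩ := fix_class hp cs hB hpd F hζ hpp.ne_zero hμ (θ := repAut cs hp.isCartan w)
    (fun x y => F.inv w x y) h1
  exact VV_le hp cs hk r hζ ht F hμ (T5Lat.mem_VV_of_rep F hpp.pos hl0)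

end Char

/-! ### the centraliser and Lang's theorem -/

section Lang

variable {p : ℕ} (hC : Con hp cs hk r p)

include hC in
/-- **The centraliser is generated by the torus and root groups.** -/
theorem cent_form {t : ↥(D.group k)} (ht : t ∈ TT D k) (htp : t ^ p = 1) {c : ↥(D.group k)} (hc : c * t = t * c) :
    ∃ m ∈ MMZ cs hp.isCartan (XX D l k) (ch hp) {t}, ∃ s ∈ TT D k, c = m * s := by
  have hZ : ({t} : Set ↥(D.group k)) ⊆ TL (Tj hp (k := k)) := by
    rw [Set.singleton_subset_iff]; exact (mem_TL' hp hk).2 ht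
  obtain ⟨m, hm, w, kk, hkk, hkt, rfl⟩ := exists_form_centralizer (tow hp cs hk r) (coL hp cs hk r)
    (GG_eq_top hp cs hk) (Set.finite_singleton t) hZ (c := c) (fun s hs => by
      rw [Set.mem_singleton_iff] at hs; rw [hs, hc])
  have h1 := hC t ht htp (mem_CW_of_comm (tow hp cs hk r) (coL hp cs hk r) hZ hkk hkt)
  rw [mem_VV] at h1
  obtain ⟨m', hm', hm''⟩ := h1
  -- `kk = m' s`
  have h2 : m'⁻¹ * kk ∈ TL (Tj hp (k := k)) := by
    have h3 := hm''.inv.mul hkk
    rw [inv_mul_cancel] at h3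
    exact h3.mem_of_one
  have hXe := XL_eq hp hk (k := k)
  refine ⟨m * m', ?_, m'⁻¹ * kk, (mem_TL' hp hk).1 h2, by group⟩
  rw [← hXe]
  exact mul_mem hm hm'

variable {e : ℕ} (he : 0 < e) {σ : MulAut ↥(D.group k)} {g : (Fin l → ℤ) ≃+ (Fin l → ℤ)} (hσ : IsFrob r e σ)
  (F : Fr cs hp.isCartan (TT D k) (XX D l k) σ g) {d : ℕ} {B : Fin l → Fin l → ℤ} (hB : InvC D l d B) (hd : d ≠ 0)

include hC he hσ F hB hd in
/-- **Lang's theorem for the centraliser of an element of order `p`.** -/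
theorem lang_cent {t : ↥(D.group k)} (ht : t ∈ TT D k) (htp : t ^ p = 1) (hσt : σ t = t) {c : ↥(D.group k)}
    (hc : c * t = t * c) : ∃ y : ↥(D.group k), y * t = t * y ∧ c = y⁻¹ * σ y := by
  have hTe := TL_eq hp hk (k := k)
  have hXe := XL_eq hp hk (k := k)
  obtain ⟨m, hm, s, hs, rfl⟩ := cent_form hp cs hk r hC ht htp hc
  obtain ⟨s1, hs1, h1⟩ := torus_lang hp cs he hσ F hB hd hs
  -- `s = s1 σ(s1)⁻¹`
  have hσs1 : σ s1 ∈ TT D k := (F.tor s1).2 hs1
  have h2 : s = s1 * (σ s1)⁻¹ := by rw [eq_mul_inv_iff_mul_eq]; exact h1.symm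
  have hZ : ({t} : Set ↥(D.group k)) ⊆ TL (Tj hp (k := k)) := by
    rw [Set.singleton_subset_iff]; exact (mem_TL' hp hk).2 ht
  -- the roots
  have hgS : ∀ a ∈ SxZ cs hp.isCartan (ch hp) {t}, g a ∈ SxZ cs hp.isCartan (ch hp) {t} := by
    rintro a ⟨ha, h3⟩
    refine ⟨(F.root a).2 ha, fun s' hs' => ?_⟩
    rw [Set.mem_singleton_iff] at hs'
    have h4 := ch_sigma hp cs hσ F ha ht
    rw [hσt, h3 t rfl, one_pow] at h4
    rw [hs', h4]
  have hTn : s1⁻¹ * m * s1 ∈ MMZ cs hp.isCartan (XX D l k) (ch hp) {t} := by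
    have h3 : s1 ∈ TL (Tj hp (k := k)) := (mem_TL' hp hk).2 hs1
    have h4 := (tow hp cs hk r (k := k)).T_le_normalizer (S := SxZ cs hp.isCartan (ch hp) {t}) (fun x hx => hx.1) h3
    rw [hXe] at h4
    have h5 := (Subgroup.mem_normalizer_iff.1 (inv_mem h4) m).1 hm
    rwa [inv_inv] at h5
  obtain ⟨a, ha, h5⟩ := lang_fr hp cs he hσ F (S := SxZ cs hp.isCartan (ch hp) {t}) (fun x hx => hx.1) hgS hTn
  -- `y = a s1⁻¹`
  have hac : a * t = t * a := by
    have h6 : a ∈ MMZ cs hp.isCartan (XL (Xj hp)) (ch (K := k) hp) {t} := by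
      rw [hXe]; exact ha
    have h7 := MMZ_le_centralizer (coL hp cs hk r) hZ h6
    exact (Subgroup.mem_centralizer_iff.1 h7 t rfl).symm
  have hsc : s1⁻¹ * t = t * s1⁻¹ := TT_comm hp (inv_mem hs1) ht
  refine ⟨a * s1⁻¹, ?_, ?_⟩
  · rw [mul_assoc, hsc, ← mul_assoc, hac, mul_assoc]
  · rw [map_mul, map_inv, h2]
    have h6 : m = s1 * (a⁻¹ * σ a) * s1⁻¹ := by rw [← h5]; group
    rw [h6]
    group

include hC he hσ F hB hd in
/-- **Moving to a fixed twisted torus.** -/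
theorem star {hN : NSys M (TT D k) (nc hp k)} {w : W} {n x z t : ↥(D.group k)} (hn : Rp cs hN w n) (hσx : σ x = x)
    (hz : z⁻¹ * x * z = t) (ht : t ∈ TT D k) (htp : t ^ p = 1) (hnt : n * σ t * n⁻¹ = t) :
    ∃ z1 : ↥(D.group k), z1⁻¹ * σ z1 = n ∧ z1⁻¹ * x * z1 = t := by
  have F1 : Fr cs hp.isCartan (TT D k) (XX D l k) (MulAut.conj n * σ) (g.trans (repAut cs hp.isCartan w)) :=
    (fr_conj hp cs hk r hn).mul F
  have hx : x = z * t * z⁻¹ := by rw [← hz]; group
  -- `c = z⁻¹ σ(z) n⁻¹` centralises `t`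
  have hc : (z⁻¹ * σ z * n⁻¹) * t = t * (z⁻¹ * σ z * n⁻¹) := by
    have h1 : σ t = n⁻¹ * t * n := by
      have h0 : σ t = n⁻¹ * (n * σ t * n⁻¹) * n := by group
      rwa [hnt] at h0
    have h2 : σ z * σ t * (σ z)⁻¹ = z * t * z⁻¹ := by
      rw [← map_inv, ← map_mul, ← map_mul, ← hx, hσx]
    rw [h1] at h2
    have h3 : z⁻¹ * (σ z * (n⁻¹ * t * n) * (σ z)⁻¹) * (σ z * n⁻¹) = z⁻¹ * (z * t * z⁻¹) * (σ z * n⁻¹) := by rw [h2]
    calc (z⁻¹ * σ z * n⁻¹) * t = z⁻¹ * (σ z * (n⁻¹ * t * n) * (σ z)⁻¹) * (σ z * n⁻¹) := by group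
      _ = z⁻¹ * (z * t * z⁻¹) * (σ z * n⁻¹) := h3
      _ = t * (z⁻¹ * σ z * n⁻¹) := by group
  obtain ⟨y, hy, h1⟩ := lang_cent hp cs hk r hC he (hσ.conj_mul n) F1 hB hd ht htp (by
    show n * σ t * n⁻¹ = t
    exact hnt) hc
  have h2 : z⁻¹ * σ z * n⁻¹ = y⁻¹ * (n * σ y * n⁻¹) := h1
  refine ⟨z * y⁻¹, ?_, ?_⟩
  · rw [map_mul, map_inv]
    calc (z * y⁻¹)⁻¹ * (σ z * (σ y)⁻¹) = y * (z⁻¹ * σ z * n⁻¹) * n * (σ y)⁻¹ := by group
      _ = y * (y⁻¹ * (n * σ y * n⁻¹)) * n * (σ y)⁻¹ := by rw [h2]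
      _ = n := by group
  · calc (z * y⁻¹)⁻¹ * x * (z * y⁻¹) = y * (z⁻¹ * x * z) * y⁻¹ := by group
      _ = y * t * y⁻¹ := by rw [hz]
      _ = t := by rw [hy]; group

end Lang

/-- **Uniqueness up to fixed points.** -/
theorem conj_fix {Y : Type*} [Group Y] {σ : MulAut Y} {z1 z2 n : Y} (h1 : z1⁻¹ * σ z1 = n) (h2 : z2⁻¹ * σ z2 = n) :
    σ (z2 * z1⁻¹) = z2 * z1⁻¹ := by
  have e1 : σ z1 = z1 * n := by rw [← h1]; group
  have e2 : σ z2 = z2 * n := by rw [← h2]; group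
  rw [map_mul, map_inv, e1, e2]
  group

end Cfsg.Agent.H897.T5Cent
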