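import Mathlib
import Cfsg.Agent.H897.T5Untw
import Cfsg.Agent.H28.OutUntw

/-!
# Rows `E₆` (`p ∣ q - 1`), `E₇`, `E₈` (`p ∣ q² - 1`), `p ≥ 5`, from the row `PSL₂(q)` (T5)
-/

set_option autoImplicit false
set_option linter.unusedSectionVars false

namespace Cfsg.Agent.H897.T5UntwRow

open CoxeterSystem Cfsg Cfsg.Lie Cfsg.Lie.ChevalleyDatum
open Cfsg.Agent.ChevalleyStructure Cfsg.Agent.ChevalleyStructure.Elts Cfsg.Agent.ChevalleyStructure.CoxeterGeom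
  Cfsg.Agent.ChevalleyStructure.CoxeterGeomTypes Cfsg.Agent.ChevalleyStructure.NPerm
open Cfsg.Agent.Tits.Roots Cfsg.Agent.Nodes.RGDChev Cfsg.Agent.BpExc Cfsg.Agent.BpExc.FamInst
  Cfsg.Agent.CpAut.RgdUntw
open Cfsg.Agent.H897.T5Untw Cfsg.Agent.H897.T5Frame Cfsg.Agent.H897.T5Conn Cfsg.Agent.H897.T5Sub
open Cfsg.Agent.H533.T5 Cfsg.Agent.H957.T5M
open Matrix (SpecialLinearGroup)

/-! ### the data -/

/-- Cartan matrix of `E₇` -/
def A7 : Fin 7 → Fin 7 → ℤ := ![![2, 0, -1, 0, 0, 0, 0], ![0, 2, 0, -1, 0, 0, 0], ![-1, 0, 2, -1, 0, 0, 0],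
  ![0, -1, -1, 2, -1, 0, 0], ![0, 0, 0, -1, 2, -1, 0], ![0, 0, 0, 0, -1, 2, -1], ![0, 0, 0, 0, 0, -1, 2]]

/-- Cartan matrix of `E₈` -/
def A8 : Fin 8 → Fin 8 → ℤ := ![![2, 0, -1, 0, 0, 0, 0, 0], ![0, 2, 0, -1, 0, 0, 0, 0], ![-1, 0, 2, -1, 0, 0, 0, 0],
  ![0, -1, -1, 2, -1, 0, 0, 0], ![0, 0, 0, -1, 2, -1, 0, 0], ![0, 0, 0, 0, -1, 2, -1, 0],
  ![0, 0, 0, 0, 0, -1, 2, -1], ![0, 0, 0, 0, 0, 0, -1, 2]]

def L7 : List (Fin 7 → ℤ) := [![0, 0, 0, 0, 0, 0, 1], ![0, 0, 0, 0, 1, 0, 0], ![0, 0, 1, 0, 0, 0, 0],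
  ![0, 1, 1, 2, 1, 0, 0], ![0, 1, 1, 2, 2, 2, 1], ![2, 2, 3, 4, 3, 2, 1]]

def L8 : List (Fin 8 → ℤ) := [![0, 0, 0, 0, 0, 0, 0, 1], ![0, 0, 0, 0, 0, 1, 0, 0], ![0, 0, 1, 0, 0, 0, 0, 0],
  ![0, 1, 1, 2, 2, 1, 0, 0], ![0, 1, 1, 2, 2, 2, 2, 1], ![2, 2, 3, 4, 4, 3, 2, 1], ![2, 3, 4, 6, 4, 3, 2, 1]]

theorem frOK7 : FrOK chevE7 7 1 (fun j => j) A7 L7 where
  hA := by decide +kernel
  hL := by decide +kernel
  orth := by decide +kernel
  check := by decide +kernel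

theorem frOK8 : FrOK chevE8 8 1 (fun j => j) A8 L8 where
  hA := by decide +kernel
  hL := by decide +kernel
  orth := by decide +kernel
  check := by decide +kernel

theorem par6 : Par CoxeterMatrix.E₆ 1 ![2, 1, 3, 1, 3, 4] 6 := ⟨by decide +kernel, rfl, by decide +kernel⟩

theorem par7 : Par CoxeterMatrix.E₇ 1 ![2, 1, 3, 1, 3, 4, 5] 7 := ⟨by decide +kernel, rfl, by decide +kernel⟩

theorem par8 : Par CoxeterMatrix.E₈ 1 ![2, 1, 3, 1, 3, 4, 5, 6] 8 := ⟨by decide +kernel, rfl, by decide +kernel⟩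

set_option backward.isDefEq.respectTransparency false in
theorem n6 : ∀ i j : Fin 6, CoxeterMatrix.E₆ i j ≠ 4 ∧ CoxeterMatrix.E₆ i j ≠ 6 := by decide

set_option backward.isDefEq.respectTransparency false in
theorem n7 : ∀ i j : Fin 7, CoxeterMatrix.E₇ i j ≠ 4 ∧ CoxeterMatrix.E₇ i j ≠ 6 := by decide

set_option backward.isDefEq.respectTransparency false in
theorem n8 : ∀ i j : Fin 8, CoxeterMatrix.E₈ i j ≠ 4 ∧ CoxeterMatrix.E₈ i j ≠ 6 := by decide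

/-! ### the reductions -/

/-- `S` is reduced to a quotient of `SL₂(F)` -/
def Redn (p : ℕ) (F : Type) [Field F] [Fintype F] (S : Type*) [Group S] : Prop :=
  4 ≤ Fintype.card F ∧ ∃ κ : SpecialLinearGroup (Fin 2) F →* S,
    (∀ C, κ C = 1 → C ∈ Subgroup.center (SpecialLinearGroup (Fin 2) F)) ∧ Red p κ.range

section Row

variable {p : ℕ} {F : Type} [Field F] [Fintype F] {S : Type*} [Group S] {S' : Type*} [Group S']

theorem Redn.srow (hpp : p.Prime) (h : Redn p F S) (hrow : SRow p (Matrix.ProjectiveSpecialLinearGroup (Fin 2) F)) :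
    SRow p S := by
  obtain ⟨h4, κ, h1, h2⟩ := h
  exact T5Untw.srow hpp h4 h1 h2 hrow

theorem Redn.mrow (hpp : p.Prime) (h : Redn p F S) (hrow : MRow p (Matrix.ProjectiveSpecialLinearGroup (Fin 2) F)) :
    MRow p S := by
  obtain ⟨h4, κ, h1, h2⟩ := h
  exact T5Untw.mrow hpp h4 h1 h2 hrow

theorem Redn.wrow (hpp : p.Prime) (h : Redn p F S) (hrow : WRow p (Matrix.ProjectiveSpecialLinearGroup (Fin 2) F)) :
    WRow p S := by
  obtain ⟨h4, κ, h1, h2⟩ := h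
  exact T5Untw.wrow hpp h4 h1 h2 hrow

end Row

section Inst

variable {p : ℕ} (hpp : p.Prime) (hp5 : 5 ≤ p) {F : Type} [Field F] [Fintype F]

theorem cop (hpp : p.Prime) (hp5 : 5 ≤ p) {d : ℕ} (h0 : 0 < d) (h5 : d < 5) : d.Coprime p :=
  (Nat.coprime_of_lt_prime (by omega) (by omega) hpp).symm

theorem card4 (hpp : p.Prime) (hp5 : 5 ≤ p) (hq : p ∣ Fintype.card F ^ 2 - 1) : 4 ≤ Fintype.card F :=
  card_ge hpp hp5 hq Fintype.one_lt_card

theorem split (hpp : p.Prime) (hq : p ∣ Fintype.card F ^ 2 - 1) : p ∣ Fintype.card F - 1 ∨ p ∣ Fintype.card F + 1 := by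
  have e1 : Fintype.card F ^ 2 - 1 = (Fintype.card F + 1) * (Fintype.card F - 1) := by
    rw [← Nat.sq_sub_sq, one_pow]
  rw [e1] at hq
  exact (hpp.dvd_mul.1 hq).symm

include hpp hp5

theorem e6 (hq : p ∣ Fintype.card F - 1) : Redn p F ↥(chevE6.group F) := by
  refine ⟨card4 hpp hp5 ?_, ph BpExc.RowsUntw.e6T F 1, fun C => phi_ker' _ 1 C, ?_⟩
  · have e1 : Fintype.card F ^ 2 - 1 = (Fintype.card F + 1) * (Fintype.card F - 1) := by
      rw [← Nat.sq_sub_sq, one_pow]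
    rw [e1]
    exact Dvd.dvd.mul_left hq _
  · exact red_untw BpExc.RowsUntw.e6T inv_E6 three_ne_zero symTwo_E6 (fun i j => (n6 i j).1) (fun i j => (n6 i j).2)
      (fun k _ _ => S1054.result chevE6 (by simp)) (S1054.result chevE6 (by simp)) hpp hp5
      (cop hpp hp5 (by norm_num) (by norm_num)) par6 (Or.inl hq)

theorem e7 (hq : p ∣ Fintype.card F ^ 2 - 1) : Redn p F ↥(chevE7.group F) := by
  refine ⟨card4 hpp hp5 hq, ph BpExc.RowsUntw.e7T F 1, fun C => phi_ker' _ 1 C, ?_⟩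
  exact red_untw BpExc.RowsUntw.e7T inv_E7 two_ne_zero symTwo_E7 (fun i j => (n7 i j).1) (fun i j => (n7 i j).2)
      (fun k _ _ => S1054.result chevE7 (by simp)) (S1054.result chevE7 (by simp)) hpp hp5
      (cop hpp hp5 (by norm_num) (by norm_num)) par7 ((split hpp hq).imp id fun h => ⟨h, A7, L7, frOK7⟩)

theorem e8 (hq : p ∣ Fintype.card F ^ 2 - 1) : Redn p F ↥(chevE8.group F) := by
  refine ⟨card4 hpp hp5 hq, ph BpExc.RowsUntw.e8T F 1, fun C => phi_ker' _ 1 C, ?_⟩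
  exact red_untw BpExc.RowsUntw.e8T inv_E8 one_ne_zero symTwo_E8 (fun i j => (n8 i j).1) (fun i j => (n8 i j).2)
      (fun k _ _ => S1054.result chevE8 (by simp)) (S1054.result chevE8 (by simp)) hpp hp5
      (cop hpp hp5 (by norm_num) (by norm_num)) par8 ((split hpp hq).imp id fun h => ⟨h, A8, L8, frOK8⟩)

end Inst

end Cfsg.Agent.H897.T5UntwRow
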