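import Mathlib
import Cfsg.Agent.H897.T5Box

/-!
# Twisted diagonal subgroups, abstract form (T5)

`U : P → Y` is a homomorphism, `σ` an automorphism of `Y` with `σ² (U A) = U (Fb A)` such that `U P` and `σ (U P)`
commute. For a perfect group `G₀` with `j : G₀ → P` onto the fixed points of `Fb` the homomorphism
`V C = U (j C) σ (U (j C))` has image in the fixed points of `σ`.
`norm` : fixed elements normalising `U P` normalise the image of `V`.
`comm_of` : fixed elements normalising `U P` and centralising the image of `V` centralise `U (j G₀)`.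
-/

set_option autoImplicit false
set_option linter.unusedSectionVars false

namespace Cfsg.Agent.H897.T5Diag

open Subgroup Cfsg.Agent.H897.T5Sub
open scoped commutatorElement

variable {P Y G0 S : Type*} [Group P] [Group Y] [Group G0] [Group S]

/-- The data of a twisted diagonal subgroup. -/
structure Diag (U : P →* Y) (σ : MulAut Y) (Fb : P →* P) (j : G0 →* P) : Prop where
  sq : ∀ A, σ (σ (U A)) = U (Fb A)
  comm : ∀ A B, U A * σ (U B) = σ (U B) * U A
  ker : ∀ A, U A = 1 → A ∈ center P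
  inj : Function.Injective j
  fix : ∀ C, Fb (j C) = j C
  surj : ∀ A, Fb A = A → ∃ C, j C = A
  perf : commutator G0 = ⊤

variable {U : P →* Y} {σ : MulAut Y} {Fb : P →* P} {j : G0 →* P}

/-- the homomorphism `C ↦ U (j C) σ (U (j C))` -/
def V (D : Diag U σ Fb j) : G0 →* Y := MonoidHom.mk' (fun C => U (j C) * σ (U (j C))) (by
  intro C C'
  rw [map_mul, map_mul, map_mul]
  calc U (j C) * U (j C') * (σ (U (j C)) * σ (U (j C')))
      = U (j C) * (U (j C') * σ (U (j C))) * σ (U (j C')) := by group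
    _ = U (j C) * (σ (U (j C)) * U (j C')) * σ (U (j C')) := by rw [D.comm]
    _ = U (j C) * σ (U (j C)) * (U (j C') * σ (U (j C'))) := by group)

theorem V_apply (D : Diag U σ Fb j) (C : G0) : V D C = U (j C) * σ (U (j C)) := rfl

theorem V_fix (D : Diag U σ Fb j) (C : G0) : σ (V D C) = V D C := by
  rw [V_apply, map_mul, D.sq, D.fix, D.comm]

/-- the group of all elements on which a homomorphism satisfies a subgroup property is everything -/
theorem eq_top_of {H : Subgroup G0} (hG : commutator G0 = ⊤) (h : ∀ C C' : G0, ⁅C, C'⁆ ∈ H) (C : G0) : C ∈ H := by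
  have h1 : commutator G0 ≤ H := by
    rw [commutator_def, commutator_le]
    exact fun a _ b _ => h a b
  rw [hG] at h1
  exact h1 (mem_top C)

theorem V_ker (D : Diag U σ Fb j) {C : G0} (h : V D C = 1) : C ∈ center G0 := by
  have h1 : ((U.comp j).rangeRestrict).ker ≤ center G0 := by
    intro A hA
    have h2 : U (j A) = 1 := congrArg Subtype.val (show (U.comp j).rangeRestrict A = 1 from hA)
    have h3 := D.ker _ h2
    rw [mem_center_iff]
    intro B
    apply D.inj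
    rw [map_mul, map_mul]
    exact mem_center_iff.1 h3 _
  rw [← comap_center D.perf (U.comp j).rangeRestrict_surjective h1, mem_comap, mem_center_iff]
  rintro ⟨_, B, rfl⟩
  apply Subtype.ext
  show U (j B) * U (j C) = U (j C) * U (j B)
  have h4 : σ (U (j C)) = (U (j C))⁻¹ := by rw [V_apply] at h; exact (mul_eq_one_iff_inv_eq.1 h).symm
  have h3 := D.comm (j B) (j C)
  rw [h4] at h3
  calc U (j B) * U (j C) = U (j C) * ((U (j C))⁻¹ * U (j B)) * U (j C) := by group
    _ = U (j C) * (U (j B) * (U (j C))⁻¹) * U (j C) := by rw [h3]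
    _ = U (j C) * U (j B) := by group

theorem comm_aux {a b a' b' : Y} (c1 : Commute a b') (c2 : Commute b a') (c3 : Commute a a') (c4 : Commute b b') :
    a * a' * (b * b') * (a'⁻¹ * a⁻¹) * (b'⁻¹ * b⁻¹) = a * b * a⁻¹ * b⁻¹ * (a' * b' * a'⁻¹ * b'⁻¹) := by
  calc a * a' * (b * b') * (a'⁻¹ * a⁻¹) * (b'⁻¹ * b⁻¹)
      = a * (a' * b) * b' * (a'⁻¹ * a⁻¹) * (b'⁻¹ * b⁻¹) := by group
    _ = a * (b * a') * b' * (a⁻¹ * a'⁻¹) * (b⁻¹ * b'⁻¹) := by
        rw [c2.eq, (c3.inv_inv).eq, (c4.inv_inv).eq]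
    _ = a * b * (a' * b' * a⁻¹) * a'⁻¹ * b⁻¹ * b'⁻¹ := by group
    _ = a * b * (a⁻¹ * (a' * b')) * a'⁻¹ * b⁻¹ * b'⁻¹ := by
        rw [((c3.mul_right c1).inv_left).eq]
    _ = a * b * a⁻¹ * (a' * b' * a'⁻¹ * b⁻¹) * b'⁻¹ := by group
    _ = a * b * a⁻¹ * (b⁻¹ * (a' * b' * a'⁻¹)) * b'⁻¹ := by
        rw [(((c2.mul_right c4).mul_right c2.inv_right).inv_left).eq]
    _ = a * b * a⁻¹ * b⁻¹ * (a' * b' * a'⁻¹ * b'⁻¹) := by group

theorem comm_mul (D : Diag U σ Fb j) (A B : P) :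
    ⁅U A * σ (U A), U B * σ (U B)⁆ = U ⁅A, B⁆ * σ (U ⁅A, B⁆) := by
  have c1 : Commute (U A) (σ (U B)) := D.comm A B
  have c2 : Commute (U B) (σ (U A)) := D.comm B A
  have c3 : Commute (U A) (σ (U A)) := D.comm A A
  have c4 : Commute (U B) (σ (U B)) := D.comm B B
  rw [map_commutatorElement, map_commutatorElement]
  simp only [commutatorElement_def, mul_inv_rev]
  exact comm_aux c1 c2 c3 c4

/-- the elements of `U P` fixed by `σ²` -/
theorem Fb_comm (D : Diag U σ Fb j) {A B : P} (hA : σ (σ (U A)) = U A) (hB : σ (σ (U B)) = U B) :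
    Fb ⁅A, B⁆ = ⁅A, B⁆ := by
  have key : ∀ A : P, σ (σ (U A)) = U A → ∃ z ∈ center P, Fb A = A * z := by
    intro A hA
    refine ⟨A⁻¹ * Fb A, D.ker _ ?_, by group⟩
    rw [map_mul, map_inv, ← D.sq, hA, inv_mul_cancel]
  obtain ⟨z, hz, h1⟩ := key A hA
  obtain ⟨z', hz', h2⟩ := key B hB
  rw [map_commutatorElement, h1, h2]
  simp only [commutatorElement_def, mul_inv_rev]
  have e1 := mem_center_iff.1 hz
  have e2 := mem_center_iff.1 hz'
  calc A * z * (B * z') * (z⁻¹ * A⁻¹) * (z'⁻¹ * B⁻¹)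
      = A * (z * (B * z' * z⁻¹)) * A⁻¹ * (z'⁻¹ * B⁻¹) := by group
    _ = A * ((B * z' * z⁻¹) * z) * A⁻¹ * (z'⁻¹ * B⁻¹) := by rw [← e1]
    _ = A * B * (z' * (A⁻¹ * z'⁻¹)) * B⁻¹ := by group
    _ = A * B * ((A⁻¹ * z'⁻¹) * z') * B⁻¹ := by rw [← e2]
    _ = A * B * A⁻¹ * B⁻¹ := by group

/-- **Fixed elements normalising `U P` normalise the image of `V`.** -/
theorem norm (D : Diag U σ Fb j) {t : Y} (ht : σ t = t) (hU : ∀ A, ∃ A', t * U A * t⁻¹ = U A') (C : G0) :
    ∃ C', t * V D C * t⁻¹ = V D C' := by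
  have h0 : C ∈ ((V D).range.comap (MulAut.conj t).toMonoidHom).comap (V D) := by
    refine eq_top_of D.perf (fun C C' => ?_) C
    rw [mem_comap, mem_comap]
    obtain ⟨A, hA⟩ := hU (j C)
    obtain ⟨B, hB⟩ := hU (j C')
    have key : ∀ (C : G0) (A : P), t * U (j C) * t⁻¹ = U A →
        (MulAut.conj t) (V D C) = U A * σ (U A) ∧ σ (σ (U A)) = U A := by
      intro C A hA
      constructor
      · rw [MulAut.conj_apply, V_apply, ← hA, map_mul, map_mul, map_inv, ht]
        group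
      · rw [← hA]
        simp only [map_mul, map_inv, ht]
        rw [D.sq, D.fix]
    obtain ⟨h1, h2⟩ := key C A hA
    obtain ⟨h3, h4⟩ := key C' B hB
    have h5 : (MulAut.conj t).toMonoidHom (V D ⁅C, C'⁆) = U ⁅A, B⁆ * σ (U ⁅A, B⁆) := by
      rw [map_commutatorElement, map_commutatorElement]
      show ⁅(MulAut.conj t) (V D C), (MulAut.conj t) (V D C')⁆ = _
      rw [h1, h3, comm_mul D]
    obtain ⟨C'', hC⟩ := D.surj _ (Fb_comm D h2 h4)
    rw [h5]
    exact ⟨C'', by rw [V_apply, hC]⟩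
  obtain ⟨C', h1⟩ := h0
  exact ⟨C', h1.symm⟩

/-- **Fixed elements normalising `U P` and centralising the image of `V` centralise `U (j G₀)`.** -/
theorem comm_of (D : Diag U σ Fb j) {t : Y} (ht : σ t = t) (hU : ∀ A, ∃ A', t * U A * t⁻¹ = U A')
    (h : ∀ C, t * V D C = V D C * t) (C : G0) : t * U (j C) = U (j C) * t := by
  have key : ∀ C, ∃ c, (∀ A, Commute c (U A)) ∧ (MulAut.conj t) (U (j C)) = U (j C) * c := by
    intro C
    obtain ⟨A, hA⟩ := hU (j C)
    refine ⟨(U (j C))⁻¹ * U A, fun B => ?_, by rw [MulAut.conj_apply, hA]; group⟩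
    have h1 : U A * σ (U A) = U (j C) * σ (U (j C)) := by
      have h2 : t * V D C * t⁻¹ = V D C := by rw [h]; group
      rw [V_apply] at h2
      rw [← hA]
      conv_rhs => rw [← h2]
      rw [map_mul, map_mul, map_inv, ht]
      group
    have h2 : (U (j C))⁻¹ * U A = σ (U (j C)) * (σ (U A))⁻¹ := by
      rw [inv_mul_eq_iff_eq_mul, ← mul_assoc, ← h1]
      group
    rw [h2]
    have c1 : Commute (U B) (σ (U (j C))) := D.comm B (j C)
    have c2 : Commute (U B) (σ (U A)) := D.comm B A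
    exact (c1.mul_right c2.inv_right).symm
  have h0 : C ∈ ((MulAut.conj t).toMonoidHom.comp (U.comp j)).eqLocus (U.comp j) := by
    refine eq_top_of D.perf (fun C C' => ?_) C
    show (MulAut.conj t).toMonoidHom ((U.comp j) ⁅C, C'⁆) = (U.comp j) ⁅C, C'⁆
    rw [map_commutatorElement, map_commutatorElement]
    show ⁅(MulAut.conj t) (U (j C)), (MulAut.conj t) (U (j C'))⁆ = ⁅U (j C), U (j C')⁆
    obtain ⟨c, hc, h1⟩ := key C
    obtain ⟨c', hc', h2⟩ := key C'
    have hcc : Commute c c' := by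
      have e1 : c' = (U (j C'))⁻¹ * (MulAut.conj t) (U (j C')) := by rw [h2]; group
      obtain ⟨A, hA⟩ := hU (j C')
      rw [e1, MulAut.conj_apply, hA]
      exact (hc _).inv_right.mul_right (hc _)
    rw [h1, h2]
    simp only [commutatorElement_def, mul_inv_rev]
    calc U (j C) * c * (U (j C') * c') * (c⁻¹ * (U (j C))⁻¹) * (c'⁻¹ * (U (j C'))⁻¹)
        = U (j C) * (c * (U (j C') * c')) * c⁻¹ * (U (j C))⁻¹ * (c'⁻¹ * (U (j C'))⁻¹) := by group
      _ = U (j C) * ((U (j C') * c') * c) * c⁻¹ * (U (j C))⁻¹ * (c'⁻¹ * (U (j C'))⁻¹) := by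
          rw [((hc _).mul_right hcc).eq]
      _ = U (j C) * U (j C') * (c' * (U (j C))⁻¹) * c'⁻¹ * (U (j C'))⁻¹ := by group
      _ = U (j C) * U (j C') * ((U (j C))⁻¹ * c') * c'⁻¹ * (U (j C'))⁻¹ := by rw [(hc' _).inv_right.eq]
      _ = U (j C) * U (j C') * (U (j C))⁻¹ * (U (j C'))⁻¹ := by group
  have h1 : t * U (j C) * t⁻¹ = U (j C) := h0
  rw [mul_inv_eq_iff_eq_mul] at h1
  exact h1

/-! ### the subgroup of `S` -/

section Sub

variable {ι : S →* Y} (hι : Function.Injective ι) (hfix : ∀ y, σ y = y → ∃ s, ι s = y)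

include hι hfix in
theorem exists_kappa (D : Diag U σ Fb j) : ∃ κ : G0 →* S, ∀ C, ι (κ C) = V D C := by
  choose κ hκ using fun C => hfix _ (V_fix D C)
  refine ⟨MonoidHom.mk' κ (fun C C' => hι ?_), hκ⟩
  rw [hκ, map_mul, map_mul, hκ, hκ]

include hι in
/-- **The action on `κ G₀`.** -/
theorem moves (D : Diag U σ Fb j) {κ : G0 →* S} (hκ : ∀ C, ι (κ C) = V D C) {x : S} {n : ℕ} (hn : 0 < n)
    (hx : x ^ n = 1) (ht : σ (ι x) = ι x) (hU : ∀ A, ∃ A', ι x * U A * (ι x)⁻¹ = U A')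
    (hne : ∃ C, ι x * U (j C) ≠ U (j C) * ι x) : Moves κ.range (MulAut.conj x) := by
  refine ⟨Cfsg.Agent.H897.T5Box.iff_of_pow hn (by rw [← map_pow, hx, map_one]) ?_, ?_⟩
  · rintro _ ⟨C, rfl⟩
    obtain ⟨C', hC'⟩ := norm D ht hU C
    refine ⟨C', hι ?_⟩
    rw [hκ, ← hC', MulAut.conj_apply, map_mul, map_mul, map_inv, hκ]
  · by_contra hcon
    push Not at hcon
    obtain ⟨C, hC⟩ := hne
    apply hC
    refine comm_of D ht hU (fun C => ?_) C
    have h1 := congrArg ι (hcon (κ C) ⟨C, rfl⟩)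
    rw [MulAut.conj_apply, map_mul, map_mul, map_inv, hκ, mul_inv_eq_iff_eq_mul] at h1
    exact h1

end Sub

end Cfsg.Agent.H897.T5Diag
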