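import Mathlib
import Cfsg.Agent.H533.Wf.Kills
import Cfsg.Agent.H897.T5Sub
import Cfsg.Agent.H596.OneCtx
import Cfsg.Agent.ChevalleyStructure.SL2Hom

/-!
# Rows of S3826 from common components (S3826)

* `qs_range` : the image of a perfect group whose proper normal subgroups are central is `QS`;
* `wf_of_red` : `Red p L`, `L` a proper `QS` subgroup, gives `WfRow p`.
-/

set_option autoImplicit false

namespace Cfsg.Agent.H897.WfBase

open Subgroup Cfsg Cfsg.Agent.H533.T5 Cfsg.Agent.H533.Wf Cfsg.Agent.H897.T5Sub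
open scoped commutatorElement

universe u v

section QS

variable {X Y : Type*} [Group X] [Group Y]

/-- the image of a perfect group whose proper normal subgroups are central -/
theorem qs_range (hperf : commutator X = ⊤) (hX : ∀ N : Subgroup X, N.Normal → N = ⊤ ∨ N ≤ center X)
    (f : X →* Y) (hne : f.range ≠ ⊥) : QS f.range where
  perfect := by
    have h1 : Subgroup.map f ⁅(⊤ : Subgroup X), (⊤ : Subgroup X)⁆ =
        ⁅(⊤ : Subgroup X).map f, (⊤ : Subgroup X).map f⁆ := Subgroup.map_commutator _ _ _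
    have h2 : ⁅(⊤ : Subgroup X), (⊤ : Subgroup X)⁆ = ⊤ := hperf
    rw [h2, ← MonoidHom.range_eq_map] at h1
    exact h1.symm
  ne := hne
  norm := by
    intro N hN hNn
    have hn : (N.comap f).Normal := by
      refine ⟨fun n hn g => ?_⟩
      rw [mem_comap] at hn ⊢
      rw [map_mul, map_mul, map_inv]
      exact (mem_normalizer_iff.1 (hNn ⟨g, rfl⟩) (f n)).1 hn
    rcases hX _ hn with h | h
    · left
      refine le_antisymm hN ?_
      rintro _ ⟨g, rfl⟩
      have : g ∈ N.comap f := by rw [h]; exact mem_top g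
      exact this
    · right
      intro y hy
      obtain ⟨g, rfl⟩ := hN hy
      have h1 : g ∈ center X := h hy
      rw [mem_centralizer_iff]
      rintro _ ⟨x, rfl⟩
      rw [← map_mul, ← map_mul, mem_center_iff.1 h1 x]

/-- `QS` passes to images under injective homomorphisms -/
theorem qs_map {L : Subgroup X} (hL : QS L) (f : X →* Y) (hf : Function.Injective f) : QS (L.map f) where
  perfect := by
    rw [← Subgroup.map_commutator, hL.perfect]
  ne := by
    intro h
    exact hL.ne ((Subgroup.map_eq_bot_iff_of_injective _ hf).1 h)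
  norm := by
    intro N hN hNn
    have e1 : (N.comap f).map f = N := by
      rw [Subgroup.map_comap_eq]
      exact inf_eq_right.2 (hN.trans (Subgroup.map_le_range _ _))
    have h1 : N.comap f ≤ L := by
      intro x hx
      obtain ⟨y, hy, hyx⟩ := hN hx
      rwa [← hf hyx]
    rcases hL.norm (N.comap f) h1 (by
      intro x hx
      rw [mem_normalizer_iff]
      intro y
      rw [mem_comap, mem_comap, map_mul, map_mul, map_inv]
      exact mem_normalizer_iff.1 (hNn ⟨x, hx, rfl⟩) (f y)) with h | h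
    · left
      rw [← e1, h]
    · right
      rw [← e1]
      rintro _ ⟨x, hx, rfl⟩
      rw [mem_centralizer_iff]
      rintro _ ⟨y, hy, rfl⟩
      rw [← map_mul, ← map_mul, mem_centralizer_iff.1 (h hx) y hy]

end QS

section Row

variable {p : ℕ} [Fact p.Prime] {K : Type v} [Group K]

/-- **Common components.** -/
theorem wf_of_red {L : Subgroup K} (hL : QS L) (hne : L ≠ ⊤) (h : Red p L) : WfRow.{u, v} p K := by
  rintro G _ _ S C D hC ⟨e⟩
  have hn := hC.normal
  have hs := hC.simple
  let f : K →* G := S.subtype.comp e.symm.toMonoidHom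
  have hf : Function.Injective f := S.subtype_injective.comp e.symm.injective
  have hfe : ∀ s : S, f (e s) = s := fun s => by
    show ((e.symm (e s) : S) : G) = s
    rw [e.symm_apply_apply]
  have hfS : ∀ k : K, f k ∈ S := fun k => (e.symm k).2
  have hQ := qs_map hL f hf
  -- the automorphism of `K` induced by `g`
  let ψ : G →* MulAut K := (MulAut.congr e).toMonoidHom.comp MulAut.conjNormal
  have hψ : ∀ (g : G) (k : K), f (ψ g k) = g * f k * g⁻¹ := by
    intro g k
    show ((e.symm (e (MulAut.conjNormal g (e.symm k))) : S) : G) = _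
    rw [e.symm_apply_apply, MulAut.conjNormal_apply]
    rfl
  have hinj : Function.Injective ψ := by
    rw [injective_iff_map_eq_one]
    intro g hg
    have h1 : g ∈ centralizer (S : Set G) := by
      rw [mem_centralizer_iff]
      intro s hs
      have h2 := hψ g (e ⟨s, hs⟩)
      rw [hg, MulAut.one_apply, hfe] at h2
      have h3 : s = g * s * g⁻¹ := h2
      calc s * g = g * s * g⁻¹ * g := by rw [← h3]
        _ = g * s := by group
    rw [hC.cent, mem_bot] at h1
    exact h1
  -- the conjugates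
  have key : ∀ c : G, orderOf c = p → ∃ s : G, s * c * s⁻¹ ∈ normalizer ((L.map f : Subgroup G) : Set G) ∧
      s * c * s⁻¹ ∉ centralizer ((L.map f : Subgroup G) : Set G) := by
    intro c hc
    obtain ⟨g, ⟨k, rfl⟩, h1, y, hy, hy1⟩ := h (ψ c) (by rw [orderOf_injective ψ hinj, hc])
    have h2 : (MulAut.conj k : MulAut K) = ψ (f k) := by
      ext x
      apply hf
      rw [hψ, MulAut.conj_apply, map_mul, map_mul, map_inv]
    rw [h2, ← map_mul, ← map_inv, ← map_mul] at h1 hy1
    refine ⟨f k, ?_, ?_⟩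
    · rw [mem_normalizer_iff]
      intro x
      constructor
      · rintro ⟨z, hz, rfl⟩
        exact ⟨_, (h1 z).2 hz, hψ _ _⟩
      · rintro ⟨z, hz, hzx⟩
        obtain ⟨w, rfl⟩ : ∃ w, z = ψ (f k * c * (f k)⁻¹) w := ⟨(ψ (f k * c * (f k)⁻¹)).symm z, by simp⟩
        have h3 := (h1 w).1 hz
        refine ⟨w, h3, ?_⟩
        rw [hψ] at hzx
        exact mul_left_cancel (mul_right_cancel hzx)
    · intro hcon
      apply hy1
      apply hf
      rw [hψ]
      have h3 := mem_centralizer_iff.1 hcon (f y) ⟨y, hy, rfl⟩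
      rw [← h3]
      group
  obtain ⟨c, hc⟩ := hC.neC
  obtain ⟨d, hd⟩ := hC.neD
  obtain ⟨s, hs1, hs2⟩ := key c (hC.ordC c hc)
  obtain ⟨t, ht1, ht2⟩ := key d (hC.ordD d hd)
  refine hC.false_of_component ?_ hQ (hC.conjC s c hc) (hC.conjD t d hd) hs1 ht1 hs2 ht2
  intro htop
  have hLS : L.map f ≤ S := by
    rintro _ ⟨z, _, rfl⟩
    exact hfS z
  have hLn : ((L.map f).subgroupOf S).Normal := by
    refine ⟨fun n hn' g => ?_⟩
    rw [mem_subgroupOf] at hn' ⊢
    have h3 : (g : G) ∈ normalizer ((L.map f : Subgroup G) : Set G) := by rw [htop]; exact mem_top _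
    exact (mem_normalizer_iff.1 h3 (n : G)).1 hn'
  rcases hs.eq_bot_or_eq_top_of_normal _ hLn with h3 | h3
  · apply hQ.ne
    have h4 := Subgroup.subgroupOf_eq_bot.1 h3
    exact (disjoint_self.1 (h4.mono_right hLS)) 
  · apply hne
    rw [eq_top_iff]
    intro k _
    have h4 : e.symm k ∈ (L.map f).subgroupOf S := by rw [h3]; exact mem_top _
    rw [mem_subgroupOf] at h4
    obtain ⟨z, hz, hzk⟩ := h4
    have h5 : z = k := hf hzk
    rwa [← h5]

end Row

section SL

variable {F : Type} [Field F] [Fintype F]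

/-- the proper normal subgroups of `SL₂(F)` are central -/
theorem sl_normal (h4 : 4 ≤ Fintype.card F) (N : Subgroup (Matrix.SpecialLinearGroup (Fin 2) F)) (hN : N.Normal) :
    N = ⊤ ∨ N ≤ center (Matrix.SpecialLinearGroup (Fin 2) F) := by
  have hs : IsSimpleGroup (Matrix.ProjectiveSpecialLinearGroup (Fin 2) F) :=
    Cfsg.Agent.TwoFusion.SLTwoFacts.isSimpleGroup_psl (by omega)
  have hp := H596.OneCtx.perfect_SL h4
  let q : Matrix.SpecialLinearGroup (Fin 2) F →* Matrix.ProjectiveSpecialLinearGroup (Fin 2) F :=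
    QuotientGroup.mk' (center (Matrix.SpecialLinearGroup (Fin 2) F))
  have hq : Function.Surjective q := QuotientGroup.mk'_surjective _
  rcases hs.eq_bot_or_eq_top_of_normal (N.map q) (hN.map q hq) with h | h
  · right
    intro x hx
    have h1 : q x ∈ N.map q := ⟨x, hx, rfl⟩
    rw [h, mem_bot] at h1
    exact (QuotientGroup.eq_one_iff x).1 h1
  · left
    have h1 : ∀ x : Matrix.SpecialLinearGroup (Fin 2) F, ∃ n ∈ N, ∃ z ∈ center (Matrix.SpecialLinearGroup (Fin 2) F),
        x = n * z := by
      intro x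
      have h2 : q x ∈ N.map q := by rw [h]; exact mem_top _
      obtain ⟨n, hn, hnx⟩ := h2
      refine ⟨n, hn, n⁻¹ * x, ?_, by group⟩
      exact QuotientGroup.eq.1 hnx
    rw [eq_top_iff, ← hp, commutator_def, Subgroup.commutator_le]
    intro a _ b _
    obtain ⟨n, hn, z, hz, rfl⟩ := h1 a
    obtain ⟨m, hm, w, hw, rfl⟩ := h1 b
    have e1 : ⁅n * z, m * w⁆ = ⁅n, m⁆ := by
      have hz' := fun g => mem_center_iff.1 hz g
      have hw' := fun g => mem_center_iff.1 hw g
      rw [commutatorElement_def, commutatorElement_def]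
      have e2 : n * z * (m * w) * (n * z)⁻¹ * (m * w)⁻¹ = n * (z * (m * w) * z⁻¹) * n⁻¹ * w⁻¹ * m⁻¹ := by group
      have e3 : z * (m * w) * z⁻¹ = m * w := by rw [← hz' (m * w)]; group
      have e4 : n * (m * w) * n⁻¹ * w⁻¹ * m⁻¹ = n * m * (w * n⁻¹) * w⁻¹ * m⁻¹ := by group
      rw [e2, e3, e4, ← hw' n⁻¹]
      group
    rw [e1]
    rw [commutatorElement_def]
    exact mul_mem (mul_mem (mul_mem hn hm) (inv_mem hn)) (inv_mem hm)

/-- the images of `SL₂(F)` -/
theorem qs_sl (h4 : 4 ≤ Fintype.card F) {Y : Type*} [Group Y] (κ : Matrix.SpecialLinearGroup (Fin 2) F →* Y)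
    (hker : ∀ C, κ C = 1 → C ∈ center (Matrix.SpecialLinearGroup (Fin 2) F)) : QS κ.range := by
  refine qs_range (H596.OneCtx.perfect_SL h4) (sl_normal h4) κ fun h => ?_
  have h1 : center (Matrix.SpecialLinearGroup (Fin 2) F) = ⊤ := by
    rw [eq_top_iff]
    intro C _
    refine hker C ?_
    have h2 : κ C ∈ κ.range := ⟨C, rfl⟩
    rwa [h, mem_bot] at h2
  have h2 := H596.OneCtx.perfect_SL h4
  have h3 : commutator (Matrix.SpecialLinearGroup (Fin 2) F) = ⊥ := by
    rw [commutator_def, Subgroup.commutator_eq_bot_iff_le_centralizer, Subgroup.centralizer_eq_top_iff_subset.2]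
    · intro x _
      have : x ∈ (⊤ : Subgroup (Matrix.SpecialLinearGroup (Fin 2) F)) := mem_top _
      rw [← h1] at this
      exact this
  rw [h2] at h3
  have h4' : Cfsg.Agent.ChevalleyStructure.SL2Hom.up (1 : F) = 1 := by
    have h5 : Cfsg.Agent.ChevalleyStructure.SL2Hom.up (1 : F) ∈
      (⊤ : Subgroup (Matrix.SpecialLinearGroup (Fin 2) F)) := mem_top _
    rw [h3, mem_bot] at h5
    exact h5
  have h6 := congrArg (fun A : Matrix.SpecialLinearGroup (Fin 2) F => A.1 0 1) h4'
  simp [Cfsg.Agent.ChevalleyStructure.SL2Hom.up] at h6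

/-- the order of `SL₂(F)` is small -/
theorem card_sl : Nat.card (Matrix.SpecialLinearGroup (Fin 2) F) ≤ Fintype.card F ^ 4 := by
  classical
  rw [Nat.card_eq_fintype_card]
  have h1 : Fintype.card (Matrix (Fin 2) (Fin 2) F) = Fintype.card F ^ 4 := by
    have h2 : Fintype.card (Matrix (Fin 2) (Fin 2) F) = Fintype.card (Fin 2 → Fin 2 → F) := rfl
    rw [h2, Fintype.card_fun, Fintype.card_fun, Fintype.card_fin, ← pow_mul]
  rw [← h1]
  exact Fintype.card_le_of_injective (fun A : Matrix.SpecialLinearGroup (Fin 2) F => A.1) Subtype.val_injective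

theorem range_ne_top {S : Type*} [Group S] (κ : Matrix.SpecialLinearGroup (Fin 2) F →* S) {d N X : ℕ}
    (hd : d ≤ Fintype.card F) (h : d * Nat.card S = Fintype.card F ^ N * X) (hN : 6 ≤ N) (hX : 0 < X) :
    κ.range ≠ ⊤ := by
  intro htop
  have hq : 1 < Fintype.card F := Fintype.one_lt_card
  have h1 : Nat.card S ≤ Fintype.card F ^ 4 := by
    refine le_trans ?_ (card_sl (F := F))
    have hs : Function.Surjective κ := MonoidHom.range_eq_top.1 htop
    exact Nat.card_le_card_of_surjective κ hs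
  have h2 : Fintype.card F ^ 6 ≤ Fintype.card F ^ N * X := by
    calc Fintype.card F ^ 6 ≤ Fintype.card F ^ N := Nat.pow_le_pow_right (by omega) hN
      _ ≤ _ := Nat.le_mul_of_pos_right _ hX
  have h3 : d * Nat.card S ≤ Fintype.card F ^ 5 := by
    calc d * Nat.card S ≤ Fintype.card F * Fintype.card F ^ 4 := Nat.mul_le_mul hd h1
      _ = Fintype.card F ^ 5 := by ring
  have h4 : Fintype.card F ^ 5 < Fintype.card F ^ 6 := Nat.pow_lt_pow_right hq (by norm_num)
  omega

end SL

end Cfsg.Agent.H897.WfBase
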