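import Cfsg.Agent.H897.Syl

/-!
# The frame data for the primes `7, 11, 13, 17, 19` (S5740)
-/

set_option autoImplicit false
set_option maxRecDepth 100000

namespace Cfsg.Agent.H897.Data

open Cfsg Cfsg.Lie Cfsg.Agent.Tits.Roots Cfsg.Agent.H897.Lat Cfsg.Agent.H897.Frm Cfsg.Agent.H897.Cas

/-- the fixed vectors modulo 3 are the multiples of `c3` -/
@[reducible] def One (ws : List V) (c3 : V) : Prop :=
  ∀ a b c d e f : Fin 3, (∀ i : Fin 6, (3 : ℤ) ∣ dot ![((a : ℕ) : ℤ), ((b : ℕ) : ℤ), ((c : ℕ) : ℤ), ((d : ℕ) : ℤ),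
      ((e : ℕ) : ℤ), ((f : ℕ) : ℤ)] (actR ws (pm (sr i))) - 2 * (![((a : ℕ) : ℤ), ((b : ℕ) : ℤ), ((c : ℕ) : ℤ),
      ((d : ℕ) : ℤ), ((e : ℕ) : ℤ), ((f : ℕ) : ℤ)] : V) i) →
    ∃ m : Fin 3, ∀ i : Fin 6, (3 : ℤ) ∣ (![((a : ℕ) : ℤ), ((b : ℕ) : ℤ), ((c : ℕ) : ℤ), ((d : ℕ) : ℤ),
      ((e : ℕ) : ℤ), ((f : ℕ) : ℤ)] : V) i - ((m : ℕ) : ℤ) * c3 i

theorem one_of {ws : List V} {c3 : V} (h : One ws c3) (d : Fin 6 → ℕ) (hd : ∀ i, d i < 3)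
    (h1 : ∀ i : Fin 6, (3 : ℤ) ∣ dot (fun j => (d j : ℤ)) (actR ws (pm (sr i))) - 2 * (d i : ℤ)) :
    ∃ m : ℕ, ∀ i, (3 : ℤ) ∣ (d i : ℤ) - m * c3 i := by
  have e : (fun j => (d j : ℤ)) = ![(((⟨d 0, hd 0⟩ : Fin 3) : ℕ) : ℤ), (((⟨d 1, hd 1⟩ : Fin 3) : ℕ) : ℤ),
      (((⟨d 2, hd 2⟩ : Fin 3) : ℕ) : ℤ), (((⟨d 3, hd 3⟩ : Fin 3) : ℕ) : ℤ), (((⟨d 4, hd 4⟩ : Fin 3) : ℕ) : ℤ),
      (((⟨d 5, hd 5⟩ : Fin 3) : ℕ) : ℤ)] := by
    funext j
    fin_cases j <;> rfl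
  obtain ⟨m, hm⟩ := h ⟨d 0, hd 0⟩ ⟨d 1, hd 1⟩ ⟨d 2, hd 2⟩ ⟨d 3, hd 3⟩ ⟨d 4, hd 4⟩ ⟨d 5, hd 5⟩ (by
    intro i
    rw [← e]
    exact h1 i)
  refine ⟨m, fun i => ?_⟩
  have h2 := hm i
  rw [← e] at h2
  exact h2

/-- the frame for 19 -/
def ws19 : List V := [![0,0,0,1,0,0], ![0,0,1,0,0,0], ![0,1,0,0,0,0], ![1,0,0,0,0,0]]

theorem ws19_mem : ∀ a ∈ ws19, a ∈ rootList := by decide +kernel

/-- the torus element for 19 -/
def c19 : V := ![10,18,4,3,5,1]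

theorem c19_fix : ∀ i : Fin 6, ((19 : ℕ) : ℤ) ∣ dot c19 (actR ws19 (pm (sr i))) - 2 * c19 i := by decide +kernel

theorem c19_ne : ∃ i, ¬ ((19 : ℕ) : ℤ) ∣ c19 i := ⟨5, by decide +kernel⟩

theorem c19_reg : ∀ a ∈ rootList, ¬ ((19 : ℕ) : ℤ) ∣ dot c19 a := by decide +kernel

/-- the orbit data for 19 -/
def o19 : OD := ⟨[![0,0,0,1,0,0]], ![1,1,1,2,1,0], 3, ![0,0,0,1,0,1]⟩

theorem one19 : One ws19 ![2,1,2,0,1,1] := by decide +kernel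

theorem ok19 : RegOK ws19 ![2,1,2,0,1,1] o19 where
  fix := by decide +kernel
  ne := ⟨0, by decide +kernel⟩
  one := one_of one19
  stab := by decide +kernel
  orb := by decide +kernel

/-- the frame for 17 -/
def ws17 : List V := [![0,0,0,1,0,0], ![0,0,1,0,0,0], ![0,1,0,0,0,0]]

theorem ws17_mem : ∀ a ∈ ws17, a ∈ rootList := by decide +kernel

/-- the torus element for 17 -/
def c17 : V := ![9,1,13,14,12,1]

theorem c17_fix : ∀ i : Fin 6, ((17 : ℕ) : ℤ) ∣ dot c17 (actR ws17 (pm (sr i))) - 2 * c17 i := by decide +kernel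

theorem c17_ne : ∃ i, ¬ ((17 : ℕ) : ℤ) ∣ c17 i := ⟨5, by decide +kernel⟩

theorem c17_reg : ∀ a ∈ rootList, ¬ ((17 : ℕ) : ℤ) ∣ dot c17 a := by decide +kernel

/-- the orbit data for 17 -/
def o17 : OD := ⟨[![0,0,0,0,1,0]], ![0,0,1,1,0,0], 3, ![0,1,0,2,1,0]⟩

theorem one17 : One ws17 ![2,0,0,0,0,1] := by decide +kernel

theorem ok17 : RegOK ws17 ![2,0,0,0,0,1] o17 where
  fix := by decide +kernel
  ne := ⟨0, by decide +kernel⟩
  one := one_of one17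
  stab := by decide +kernel
  orb := by decide +kernel

/-- the frame for 13 -/
def ws13 : List V := [![0,0,1,0,0,0], ![0,0,0,1,0,0], ![1,0,0,0,0,0], ![0,0,1,0,0,0], ![0,1,0,0,0,0], ![1,0,0,0,0,0]]

theorem ws13_mem : ∀ a ∈ ws13, a ∈ rootList := by decide +kernel

/-- the torus element for 13 -/
def c13 : V := ![7,12,5,11,7,1]

theorem c13_fix : ∀ i : Fin 6, ((13 : ℕ) : ℤ) ∣ dot c13 (actR ws13 (pm (sr i))) - 2 * c13 i := by decide +kernel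

theorem c13_ne : ∃ i, ¬ ((13 : ℕ) : ℤ) ∣ c13 i := ⟨5, by decide +kernel⟩

theorem c13_reg : ∀ a ∈ rootList, ¬ ((13 : ℕ) : ℤ) ∣ dot c13 a := by decide +kernel

/-- the orbit data for 13 -/
def o13 : OD := ⟨[![0,0,1,1,0,0]], ![0,1,1,2,1,1], 3, ![0,0,0,1,1,2]⟩

theorem one13 : One ws13 ![2,0,2,1,1,1] := by decide +kernel

theorem ok13 : RegOK ws13 ![2,0,2,1,1,1] o13 where
  fix := by decide +kernel
  ne := ⟨0, by decide +kernel⟩
  one := one_of one13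
  stab := by decide +kernel
  orb := by decide +kernel

/-- the frame for 49 -/
def ws49 : List V := [![0,1,0,1,0,0], ![0,1,0,0,0,0], ![1,1,1,2,2,1], ![0,1,1,2,2,1]]

theorem ws49_mem : ∀ a ∈ ws49, a ∈ rootList := by decide +kernel

/-- a torus element for 49 -/
def c49a : V := ![0,5,1,3,1,0]

theorem c49a_fix : ∀ i : Fin 6, (7 : ℤ) ∣ dot c49a (actR ws49 (pm (sr i))) - 2 * c49a i := by decide +kernel

/-- a torus element for 49 -/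
def c49b : V := ![4,6,5,5,0,1]

theorem c49b_fix : ∀ i : Fin 6, (7 : ℤ) ∣ dot c49b (actR ws49 (pm (sr i))) - 2 * c49b i := by decide +kernel

theorem c49_reg : ∀ a ∈ rootList, (7 : ℤ) ∣ dot c49a a → ¬ (7 : ℤ) ∣ dot c49b a := by decide +kernel

/-- the orbit data for 49 -/
def o49 : OD := ⟨[![0,0,0,1,0,0]], ![0,0,1,1,0,0], 3, ![0,0,0,1,0,2]⟩

theorem one49 : One ws49 ![2,0,0,0,2,1] := by decide +kernel

theorem ok49 : RegOK ws49 ![2,0,0,0,2,1] o49 where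
  fix := by decide +kernel
  ne := ⟨0, by decide +kernel⟩
  one := one_of one49
  stab := by decide +kernel
  orb := by decide +kernel

/-- the frame for 11 -/
def ws11 : List V := [![0,0,0,1,0,0], ![0,0,1,0,0,0], ![1,0,0,0,0,0]]

theorem ws11_mem : ∀ a ∈ ws11, a ∈ rootList := by decide +kernel

/-- the torus element for 11 -/
def c11 : V := ![6,1,2,1,3,1]

theorem c11_fix : ∀ i : Fin 6, ((11 : ℕ) : ℤ) ∣ dot c11 (actR ws11 (pm (sr i))) - 2 * c11 i := by decide +kernel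

theorem c11_ne : ∃ i, ¬ ((11 : ℕ) : ℤ) ∣ c11 i := ⟨5, by decide +kernel⟩

theorem n11 : NregOK ws11 11 c11 ![0,6,0,0,0,0] [![1,2,2,3,2,1]] ⟨[], ![1,2,2,3,2,1], 1, ![0,0,0,0,0,1]⟩ ⟨[![0,0,0,1,0,0]], ![0,0,0,1,1,0], 3, ![0,0,0,0,1,2]⟩ where
  fix := by decide +kernel
  ne := ⟨0, by decide +kernel⟩
  reg := by decide +kernel
  triv := by decide +kernel
  perp := by decide +kernel
  stab₁ := by decide +kernel
  stab₂ := by decide +kernel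
  orb₁ := by decide +kernel
  orb₂ := by decide +kernel
  two := by decide +kernel

theorem n49_0 : NregOK ws49 7 ![4,6,5,5,0,1] ![5,0,0,6,5,3] [![0,0,0,0,1,0], ![1,0,1,1,0,0], ![0,1,1,2,1,0], ![1,1,1,1,1,1]] ⟨[![0,0,0,0,1,0], ![1,0,1,1,1,0]], ![0,0,0,0,1,0], 2, ![0,0,0,0,1,1]⟩ ⟨[![0,0,1,0,0,0]], ![0,0,1,0,0,0], 2, ![0,0,1,0,0,0]⟩ where
  fix := by decide +kernel
  ne := ⟨0, by decide +kernel⟩
  reg := by decide +kernel
  triv := by decide +kernel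
  perp := by decide +kernel
  stab₁ := by decide +kernel
  stab₂ := by decide +kernel
  orb₁ := by decide +kernel
  orb₂ := by decide +kernel
  two := by decide +kernel

theorem n49_1 : NregOK ws49 7 ![0,5,1,3,1,0] ![4,0,2,0,2,2] [![0,0,0,0,0,1], ![1,0,0,0,0,0], ![0,1,1,2,2,1], ![1,1,2,2,1,0]] ⟨[![0,0,0,0,0,1], ![0,1,1,2,2,1]], ![0,0,0,0,0,1], 2, ![0,0,0,0,0,1]⟩ ⟨[![0,0,0,1,0,0]], ![0,0,0,1,0,0], 2, ![0,0,0,1,0,0]⟩ where
  fix := by decide +kernel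
  ne := ⟨1, by decide +kernel⟩
  reg := by decide +kernel
  triv := by decide +kernel
  perp := by decide +kernel
  stab₁ := by decide +kernel
  stab₂ := by decide +kernel
  orb₁ := by decide +kernel
  orb₂ := by decide +kernel
  two := by decide +kernel

theorem n49_2 : NregOK ws49 7 ![4,4,6,1,1,1] ![3,2,5,4,3,6] [![0,0,1,1,0,0], ![0,1,0,1,1,1]] ⟨[![0,0,1,1,0,0]], ![0,0,1,1,0,0], 2, ![0,0,0,1,0,2]⟩ ⟨[![0,0,0,1,1,0], ![0,1,1,1,1,0]], ![0,0,0,1,1,0], 2, ![0,0,0,0,1,2]⟩ where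
  fix := by decide +kernel
  ne := ⟨0, by decide +kernel⟩
  reg := by decide +kernel
  triv := by decide +kernel
  perp := by decide +kernel
  stab₁ := by decide +kernel
  stab₂ := by decide +kernel
  orb₁ := by decide +kernel
  orb₂ := by decide +kernel
  two := by decide +kernel

theorem n49_3 : NregOK ws49 7 ![1,3,4,6,1,2] ![5,5,5,2,0,0] [![0,0,0,1,1,0], ![0,1,1,1,1,0], ![1,1,1,1,0,0], ![1,0,1,1,1,1]] ⟨[![0,0,0,1,1,0], ![0,1,1,1,1,0]], ![0,0,0,1,1,0], 2, ![0,0,0,0,1,2]⟩ ⟨[![0,0,1,1,0,0]], ![0,0,1,1,0,0], 2, ![0,0,0,1,0,2]⟩ where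
  fix := by decide +kernel
  ne := ⟨0, by decide +kernel⟩
  reg := by decide +kernel
  triv := by decide +kernel
  perp := by decide +kernel
  stab₁ := by decide +kernel
  stab₂ := by decide +kernel
  orb₁ := by decide +kernel
  orb₂ := by decide +kernel
  two := by decide +kernel

theorem n49_4 : NregOK ws49 7 ![5,2,2,4,1,3] ![2,4,4,6,0,0] [![1,0,1,0,0,0], ![0,0,1,1,1,0], ![0,1,0,1,1,0], ![1,1,1,2,1,1]] ⟨[![1,0,1,0,0,0], ![0,1,0,1,1,0]], ![1,0,1,0,0,0], 2, ![0,0,1,0,2,0]⟩ ⟨[![0,0,0,0,1,1]], ![0,0,0,0,1,1], 2, ![0,0,0,1,0,2]⟩ where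
  fix := by decide +kernel
  ne := ⟨0, by decide +kernel⟩
  reg := by decide +kernel
  triv := by decide +kernel
  perp := by decide +kernel
  stab₁ := by decide +kernel
  stab₂ := by decide +kernel
  orb₁ := by decide +kernel
  orb₂ := by decide +kernel
  two := by decide +kernel

theorem n49_5 : NregOK ws49 7 ![2,1,0,2,1,4] ![1,3,1,5,0,4] [![0,0,1,0,0,0], ![0,0,0,1,1,1]] ⟨[![0,0,1,0,0,0]], ![0,0,1,0,0,0], 2, ![0,0,1,0,0,0]⟩ ⟨[![0,0,0,0,1,0], ![1,0,1,1,1,0]], ![0,0,0,0,1,0], 2, ![0,0,0,0,1,1]⟩ where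
  fix := by decide +kernel
  ne := ⟨0, by decide +kernel⟩
  reg := by decide +kernel
  triv := by decide +kernel
  perp := by decide +kernel
  stab₁ := by decide +kernel
  stab₂ := by decide +kernel
  orb₁ := by decide +kernel
  orb₂ := by decide +kernel
  two := by decide +kernel

theorem n49_6 : NregOK ws49 7 ![6,0,5,0,1,5] ![0,2,2,3,2,0] [![0,0,0,1,0,0], ![0,1,0,0,0,0]] ⟨[![0,0,0,1,0,0]], ![0,0,0,1,0,0], 2, ![0,0,0,1,0,0]⟩ ⟨[![0,0,0,0,0,1], ![0,1,1,2,2,1]], ![0,0,0,0,0,1], 2, ![0,0,0,0,0,1]⟩ where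
  fix := by decide +kernel
  ne := ⟨0, by decide +kernel⟩
  reg := by decide +kernel
  triv := by decide +kernel
  perp := by decide +kernel
  stab₁ := by decide +kernel
  stab₂ := by decide +kernel
  orb₁ := by decide +kernel
  orb₂ := by decide +kernel
  two := by decide +kernel

theorem n49_7 : NregOK ws49 7 ![3,6,3,5,1,6] ![1,6,6,0,1,0] [![0,0,0,0,1,1], ![0,1,1,1,0,0]] ⟨[![0,0,0,0,1,1]], ![0,0,0,0,1,1], 2, ![0,0,0,1,0,2]⟩ ⟨[![1,0,1,0,0,0], ![0,1,0,1,1,0]], ![1,0,1,0,0,0], 2, ![0,0,1,0,2,0]⟩ where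
  fix := by decide +kernel
  ne := ⟨0, by decide +kernel⟩
  reg := by decide +kernel
  triv := by decide +kernel
  perp := by decide +kernel
  stab₁ := by decide +kernel
  stab₂ := by decide +kernel
  orb₁ := by decide +kernel
  orb₂ := by decide +kernel
  two := by decide +kernel

/-- the eight lines -/
def lines : List V := [![4,6,5,5,0,1], ![0,5,1,3,1,0], ![4,4,6,1,1,1], ![1,3,4,6,1,2], ![5,2,2,4,1,3], ![2,1,0,2,1,4], ![6,0,5,0,1,5], ![3,6,3,5,1,6]]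

theorem lines_ok : ∀ c ∈ lines, ∃ (c' : V) (sr' : List V) (o₁ o₂ : OD), NregOK ws49 7 c c' sr' o₁ o₂ := by
  intro c hc
  simp only [lines, List.mem_cons, List.not_mem_nil, or_false] at hc
  rcases hc with rfl | rfl | rfl | rfl | rfl | rfl | rfl | rfl
  · exact ⟨_, _, _, _, n49_0⟩
  · exact ⟨_, _, _, _, n49_1⟩
  · exact ⟨_, _, _, _, n49_2⟩
  · exact ⟨_, _, _, _, n49_3⟩
  · exact ⟨_, _, _, _, n49_4⟩
  · exact ⟨_, _, _, _, n49_5⟩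
  · exact ⟨_, _, _, _, n49_6⟩
  · exact ⟨_, _, _, _, n49_7⟩

theorem cover : ∀ i j : Fin 7, (i, j) ≠ (0, 0) → ∃ c ∈ lines, ∃ m : Fin 7, m ≠ 0 ∧ ∀ n : Fin 6,
    (7 : ℤ) ∣ ((i : ℕ) : ℤ) * c49a n + ((j : ℕ) : ℤ) * c49b n - ((m : ℕ) : ℤ) * c n := by decide +kernel

end Cfsg.Agent.H897.Data
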