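import Cfsg.Agent.H897.CentC

/-! Copies of the sections `FamTwFr`, `FamTwSixFam` of `BpTab.Final` (S1332-EXC, helper33), to keep the import closure
small. -/

-- merged: Cfsg.Agent.BpExc.FamTwFr
section

/-!
# The graph automorphisms are frame automorphisms (S1332-EXC, helper33)

* `gr_isFrob` : `IsFrob r 0 (gr hD S)`;
* `fr_gr` : `Fr cs _ (TT D k) (XX D l k) (gr hp.inList S) (permE ρ)` for a table symmetry acting on the vectors by the
  permutation `ρ` of the coordinates; instances `fr_six`, `fr_four`;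
* `fr_sig`, `isFrob_sig` : `gr ^ j * phi m`.
-/

set_option autoImplicit false
set_option linter.unusedSectionVars false
set_option maxHeartbeats 400000

namespace Cfsg.Agent.H897.Frame

open CoxeterSystem Cfsg Cfsg.Lie Cfsg.Agent.ChevalleyStructure Cfsg.Agent.ChevalleyStructure.Elts
  Cfsg.Agent.ChevalleyStructure.CoxeterGeom Cfsg.Agent.ChevalleyStructure.CoxeterGeomTypes
  Cfsg.Agent.ChevalleyStructure.NPerm Cfsg.Agent.ChevalleyStructure.SignedSymm Cfsg.Agent.Tits.Roots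
  Cfsg.Agent.Tits.Core Cfsg.Agent.Nodes.Reps
  Cfsg.Agent.Nodes.BNOf Cfsg.Agent.Nodes.RGDChev Cfsg.Agent.KFacts.RgdChevCoord Cfsg.Agent.LangThm
  Cfsg.Agent.BpExc.Fr Cfsg.Agent.BpExc.LangFr Cfsg.Agent.BpExc.Tow Cfsg.Agent.BpExc.TowChev
  Cfsg.Agent.BpExc.FamTw.Gr
open Cfsg.Agent.ChevalleyStructure.GraphSymm (symmE6)

universe u v

/-- the permutation of the coordinates -/
def permE {l : ℕ} (ρ : Equiv.Perm (Fin l)) : (Fin l → ℤ) ≃+ (Fin l → ℤ) where
  toFun a := fun i => a (ρ.symm i)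
  invFun a := fun i => a (ρ i)
  left_inv a := by funext i; exact congrArg a (ρ.symm_apply_apply i)
  right_inv a := by funext i; exact congrArg a (ρ.apply_symm_apply i)
  map_add' _ _ := rfl

section

variable {D : ChevalleyDatum} {l : ℕ} {M : CoxeterMatrix (Fin l)} (hp : IsType D l M) (S : Symm D)
  {k : Type u} [Field k] {W : Type v} [Group W] (cs : CoxeterSystem M W)

theorem gr_isFrob (hD : InList D) (r : ℕ) [Fact r.Prime] [CharP k r] : IsFrob r 0 (gr (L := k) hD S) :=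
  ⟨S.P k, fun g => by rw [frob_zero]; rfl⟩

theorem mem_XX {r : ℕ} (hr : r < D.nroots) (y : ↥(D.group k)) :
    y ∈ XX D l k (vec D l r) ↔ ∃ t : k, (y : GL D.Idx k) = xG hp.inList r t := by
  show (y : GL D.Idx k) ∈ XV D l k (vec D l r) ↔ _
  rw [XV_vec hp _ hr, mem_rootSubgroup_iff hp.inList]

theorem gr_mem_XX (r : Fin D.nroots) (y : ↥(D.group k)) :
    gr hp.inList S y ∈ XX D l k (vec D l (S.σ r).val) ↔ y ∈ XX D l k (vec D l r.val) := by
  rw [mem_XX hp (S.σ r).2, mem_XX hp r.2]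
  constructor
  · rintro ⟨t, ht⟩
    refine ⟨((S.ε r : ℤ) : k) * t, ?_⟩
    have h1 := P_xG (L := k) hp.inList S r (((S.ε r : ℤ) : k) * t)
    rw [← mul_assoc, S.ε_sq', one_mul, ← ht, coe_gr] at h1
    exact (mul_left_cancel (mul_right_cancel h1)).symm
  · rintro ⟨t, ht⟩
    exact ⟨((S.ε r : ℤ) : k) * t, by rw [coe_gr, ht, P_xG]⟩

/-- `S` acts on the vectors of the roots by a permutation of the coordinates -/
def VecPerm (D : ChevalleyDatum) (l : ℕ) (S : Symm D) (ρ : Equiv.Perm (Fin l)) : Prop :=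
  ∀ (r : Fin D.nroots) (i : Fin l), vec D l (S.σ r).val i = vec D l r.val (ρ.symm i)

variable {S} {ρ : Equiv.Perm (Fin l)}

theorem VecPerm.vec (hv : VecPerm D l S ρ) (r : Fin D.nroots) : vec D l (S.σ r).val = permE ρ (vec D l r.val) :=
  funext fun i => hv r i

/-- **The graph automorphism is a frame automorphism.** -/
theorem fr_gr {ρ' : Fin l → Fin l} (H : OnSimple D l S ρ') (hv : VecPerm D l S ρ) {n : ℕ}
    (hn : gr (L := k) hp.inList S ^ (n + 1) = 1) :
    Fr cs hp.isCartan (TT D k) (XX D l k) (gr hp.inList S) (permE ρ) where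
  tor t := by
    refine ⟨fun ht => ?_, fun ht => gr_TT hp H ht⟩
    have h1 : ∀ m : ℕ, (gr (L := k) hp.inList S ^ m) (gr hp.inList S t) ∈ TT D k := by
      intro m
      induction m with
      | zero => rw [pow_zero]; exact ht
      | succ m ih => rw [pow_succ', MulAut.mul_apply]; exact gr_TT hp H ih
    have h2 := h1 n
    rw [← MulAut.mul_apply, ← pow_succ, hn] at h2
    exact h2
  root a := by
    rw [isRoot_iff hp cs, isRoot_iff hp cs]
    constructor
    · rintro ⟨s, hs, e⟩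
      obtain ⟨r, hr⟩ := S.σ.surjective ⟨s, hs⟩
      refine ⟨r.val, r.2, (permE ρ).injective ?_⟩
      rw [← hv.vec, hr]
      exact e
    · rintro ⟨r, hr, rfl⟩
      exact ⟨(S.σ ⟨r, hr⟩).val, (S.σ ⟨r, hr⟩).2, hv.vec ⟨r, hr⟩⟩
  map a ha y := by
    obtain ⟨r, hr, rfl⟩ := (isRoot_iff hp cs a).1 ha
    rw [← hv.vec ⟨r, hr⟩]
    exact gr_mem_XX hp S ⟨r, hr⟩ y

end

/-! ### the instances -/

/-- `E₆` -/
def rho6 : Equiv.Perm (Fin 6) where
  toFun := ![5, 1, 4, 3, 2, 0]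
  invFun := ![5, 1, 4, 3, 2, 0]
  left_inv := by decide
  right_inv := by decide

theorem vecPerm6 : VecPerm chevE6 6 symmE6 rho6 := by
  unfold VecPerm
  decide +kernel

theorem simple_lt6 : ∀ i : Fin 6, chevE6.simple i < chevE6.nroots := by decide +kernel

theorem simple_map6 : ∀ i : Fin 6, (symmE6.σ ⟨chevE6.simple i, simple_lt6 i⟩).val =
    chevE6.simple ((![5, 1, 4, 3, 2, 0] : Fin 6 → Fin 6) i) := by decide +kernel

theorem simple_eps6 : ∀ i : Fin 6, symmE6.ε ⟨chevE6.simple i, simple_lt6 i⟩ = 1 := by decide +kernel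

theorem onSimple6 : OnSimple chevE6 6 symmE6 ![5, 1, 4, 3, 2, 0] where
  map i := ⟨simple_lt6 i, simple_map6 i, simple_eps6 i⟩
  surj := by decide

theorem inListE6 : InList chevE6 := by unfold InList; simp

section

variable {k : Type u} [Field k] {W : Type v} [Group W]

theorem gr_sq6 (hD : InList chevE6) : gr (L := k) hD symmE6 ^ 2 = 1 := gr_sq hD symmE6 (by decide +kernel)

end

end Cfsg.Agent.H897.Frame

end

-- merged: Cfsg.Agent.BpExc.FamTwSixFam
section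

/-!
# S1332-EXC (i2) for `²E₆(q)` (helper33)

* `eq_one_of_comm` : `C(em (²E₆(q))) = 1` in `E₆(L)`, any field `L`;
* `fam` : the hypothesis `hfam` of `Asm.bps` for `em q f : ²E₆(q) → E₆(k)`, `σ = gr * phi n`, `q = r ^ n`.
-/

set_option autoImplicit false
set_option linter.unusedSectionVars false
set_option maxHeartbeats 400000

namespace Cfsg.Agent.H897.Six

open CoxeterSystem Cfsg Cfsg.Agent.ChevalleyStructure.CoxeterGeom Cfsg.Agent.Tits.Roots Cfsg.Agent.Tits.Core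
  Cfsg.Agent.Tits.Exchange Cfsg.Agent.Nodes.Reps Cfsg.Agent.Nodes.BNOf Cfsg.Agent.Nodes.StabComb
  Cfsg.Agent.Nodes.Bruhat Cfsg.Agent.Nodes.OppDec Cfsg.Agent.Nodes.RGDTwGen Cfsg.Agent.Nodes.RGDChev
  Cfsg.Agent.Nodes.RGDFold Cfsg.Agent.Nodes.RGDFoldSL
open Cfsg.Agent.KFacts.RgdOpp Cfsg.Agent.KFacts.RgdAut Cfsg.Agent.KFacts.RgdDiag Cfsg.Agent.KFacts.RgdRigid
  Cfsg.Agent.KFacts.RgdField Cfsg.Agent.KFacts.RgdTau Cfsg.Agent.KFacts.RgdNodes
open Cfsg.Lie Cfsg.Agent.ChevalleyStructure Cfsg.Agent.ChevalleyStructure.Elts Cfsg.Agent.ChevStructure.FieldMap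
open Cfsg.Agent.ChevalleyStructure.SL2Hom (up lo)
open Cfsg.Agent.KFacts.TwESix.NodeCoord Cfsg.Agent.KFacts.TwESix.Out Cfsg.Agent.KFacts.TwESix.OutTwo
open Cfsg.Agent.Nodes.RGDTwE6 Cfsg.Agent.Nodes.RGDTwNode.E6
open Cfsg.Agent.ChevalleyStructure.TwE6Basic (hE6 single_mem pair_mem twisted_le_iff exists_frob twisted_le_fix)
open Cfsg.Agent.ChevalleyStructure.GraphSymm (symmE6)
open Cfsg.Agent.CpAut.RgdFix Cfsg.Agent.CpAut.RgdCoh Cfsg.Agent.CpAut.RgdConj Cfsg.Agent.CpAut.RgdSub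
  Cfsg.Agent.CpAut.RgdTwStd Cfsg.Agent.CpAut.RgdTwE6
open Cfsg.Agent.CpAut.RgdUntw (fld fld_coe)
open Cfsg.Agent.GpExc.Field (glMap coe_glMap)
open Cfsg.Agent.BpExc.FamTw.Gr
open Cfsg.Agent.BpExc.FamTw.Six (em coe_em em_injective)
open Cfsg.Agent.KFacts.RgdChevCoord (TT XX)

universe u v

section Cent

variable {K : Type u} {L : Type v} [Field K] [Fintype K] [Field L] {q : ℕ} {φ : K →+* K} (hφ : ∀ x, φ x = x ^ q)
  (hqq : ∀ t : K, (t ^ q) ^ q = t) (f : K →+* L)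

/-- a regular unipotent element -/
noncomputable def u0 : ↥(twistedE6 K q) :=
  PhiE hφ hqq 0 (up 1) * PhiE hφ hqq 1 (up 1) * PhiE hφ hqq 2 (up 1) * PhiE hφ hqq 3 (up 1)

theorem coe_u0 : glMap chevE6 f (u0 hφ hqq : GL chevE6.Idx K) =
    wordG hE6 [(46, 1), (39, 1), (42, 1), (37, 1), (56, 1), (36, 1)] := by
  have h1 : ∀ i : Fin 4, ((1 : KF φ i) : K) = 1 := fun _ => rfl
  unfold u0
  rw [Subgroup.coe_mul, Subgroup.coe_mul, Subgroup.coe_mul, coe_up, coe_up, coe_up, coe_up, h1, h1, h1, h1]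
  show glMap chevE6 f (xG hE6 46 1 * 1 * (xG hE6 39 1 * 1) * (xG hE6 42 1 * (xG hE6 37 (φ 1) * 1)) *
    (xG hE6 56 1 * (xG hE6 36 (φ 1) * 1))) = xG hE6 46 1 * (xG hE6 39 1 * (xG hE6 42 1 * (xG hE6 37 1 *
      (xG hE6 56 1 * (xG hE6 36 1 * 1)))))
  simp only [map_mul, map_one, mul_one, Cfsg.Agent.GpExc.Field.glMap_xG, mul_assoc]

theorem isPos6 : ∀ r : Fin 72, 36 ≤ r.val → chevE6.IsPosRoot r.val := by decide +kernel

theorem simple6 : chevE6.simple 0 = 56 ∧ chevE6.simple 1 = 46 ∧ chevE6.simple 2 = 42 ∧ chevE6.simple 3 = 39 ∧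
    chevE6.simple 4 = 37 ∧ chevE6.simple 5 = 36 := by decide +kernel

include hφ hqq in
/-- **The centralizer of `²E₆(q)` in `E₆(L)` is trivial.** -/
theorem eq_one_of_comm (z : ↥(chevE6.group L)) (hz : ∀ g, z * em q f g = em q f g * z) : z = 1 := by
  obtain ⟨g0, hg0, hN, hlong⟩ := Cfsg.Agent.H897.Long.exists_long_mono (k := L) foldData (foldGrp hφ hqq) f isCartan
  have h1 := congrArg Subtype.val (hz ⟨g0, hg0⟩)
  have h2 := congrArg Subtype.val (hz (u0 hφ hqq))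
  apply Subtype.ext
  have hpos : ∀ q ∈ ([(46, 1), (39, 1), (42, 1), (37, 1), (56, 1), (36, 1)] : List (ℕ × L)), chevE6.IsPosRoot q.1 := by
    intro q hq
    simp only [List.mem_cons, List.not_mem_nil, or_false] at hq
    rcases hq with rfl | rfl | rfl | rfl | rfl | rfl
    · exact isPos6 46 (by norm_num)
    · exact isPos6 39 (by norm_num)
    · exact isPos6 42 (by norm_num)
    · exact isPos6 37 (by norm_num)
    · exact isPos6 56 (by norm_num)
    · exact isPos6 36 (by norm_num)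
  refine Cfsg.Agent.H897.Cent.eq_one_of_comm hp z.2 (u := glMap chevE6 f (u0 hφ hqq : GL chevE6.Idx K)) (n := glMap chevE6 f g0) ?_
    (fun i hi => ⟨1, ?_, one_ne_zero⟩) h2 hN hlong h1
  · rw [coe_u0]
    refine mem_of_xG_mem hE6 fun q hq => ?_
    exact xG_mem_posUnipotent hE6 (hpos q hq) _
  · rw [coe_u0]
    have h3 := Cfsg.Agent.H897.Cent.co_word (hD := hE6) hi _ hpos
    have h4 : i < 6 := hi
    obtain ⟨e0, e1, e2, e3, e4, e5⟩ := simple6
    interval_cases i <;> simpa [e0, e1, e2, e3, e4, e5] using h3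

end Cent

end Cfsg.Agent.H897.Six

end
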