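import Cfsg.Agent.H897.Frame

/-!
# The root lattice of type `E₆`, computably (S5740)

`V = Fin 6 → ℤ`; `bil` the Cartan form, `rf a` the reflection in a vector of norm 2, `actR` products of reflections,
`pm` the graph automorphism; `rootList` the 72 roots.
-/

set_option autoImplicit false

namespace Cfsg.Agent.H897.Lat

open CoxeterSystem Cfsg Cfsg.Lie Cfsg.Agent.ChevalleyStructure.CoxeterGeom Cfsg.Agent.ChevalleyStructure.CoxeterGeomTypes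
  Cfsg.Agent.Tits.Roots Cfsg.Agent.Tits.Core Cfsg.Agent.Nodes.Coroot Cfsg.Agent.Nodes.RGDChev
  Cfsg.Agent.Nodes.BNOf Cfsg.Agent.H897.Frame

/-- the lattice -/
abbrev V := Fin 6 → ℤ

/-- the Cartan form -/
def bil (x y : V) : ℤ :=
  2 * (x 0 * y 0 + x 1 * y 1 + x 2 * y 2 + x 3 * y 3 + x 4 * y 4 + x 5 * y 5) - (x 0 * y 2 + x 2 * y 0)
    - (x 2 * y 3 + x 3 * y 2) - (x 3 * y 4 + x 4 * y 3) - (x 4 * y 5 + x 5 * y 4) - (x 1 * y 3 + x 3 * y 1)

/-- the reflection in `a` -/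
def rf (a x : V) : V :=
  ![x 0 - bil x a * a 0, x 1 - bil x a * a 1, x 2 - bil x a * a 2, x 3 - bil x a * a 3, x 4 - bil x a * a 4,
    x 5 - bil x a * a 5]

/-- products of reflections -/
def actR : List V → V → V
  | [], x => x
  | a :: l, x => rf a (actR l x)

/-- the graph automorphism -/
def pm (x : V) : V := ![x 5, x 1, x 4, x 3, x 2, x 0]

/-- the dual pairing -/
def dot (c x : V) : ℤ := c 0 * x 0 + c 1 * x 1 + c 2 * x 2 + c 3 * x 3 + c 4 * x 4 + c 5 * x 5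

/-- the positive roots -/
def posList : List V :=
  [![1,0,0,0,0,0], ![0,1,0,0,0,0], ![0,0,1,0,0,0], ![0,0,0,1,0,0], ![0,0,0,0,1,0], ![0,0,0,0,0,1],
   ![1,0,1,0,0,0], ![0,1,0,1,0,0], ![0,0,1,1,0,0], ![0,0,0,1,1,0], ![0,0,0,0,1,1],
   ![1,0,1,1,0,0], ![0,1,1,1,0,0], ![0,1,0,1,1,0], ![0,0,1,1,1,0], ![0,0,0,1,1,1],
   ![1,1,1,1,0,0], ![1,0,1,1,1,0], ![0,1,1,1,1,0], ![0,1,0,1,1,1], ![0,0,1,1,1,1],
   ![1,1,1,1,1,0], ![1,0,1,1,1,1], ![0,1,1,2,1,0], ![0,1,1,1,1,1],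
   ![1,1,1,2,1,0], ![1,1,1,1,1,1], ![0,1,1,2,1,1],
   ![1,1,2,2,1,0], ![1,1,1,2,1,1], ![0,1,1,2,2,1],
   ![1,1,2,2,1,1], ![1,1,1,2,2,1], ![1,1,2,2,2,1], ![1,1,2,3,2,1], ![1,2,2,3,2,1]]

/-- the roots -/
def rootList : List V :=
  posList ++ posList.map fun x => ![-x 0, -x 1, -x 2, -x 3, -x 4, -x 5]

theorem vec_mem : ∀ r : Fin 72, vec chevE6 6 r.val ∈ rootList := by decide +kernel

theorem mem_vec : ∀ a ∈ rootList, ∃ r : Fin 72, vec chevE6 6 r.val = a := by decide +kernel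

theorem nroots_eq : chevE6.nroots = 72 := by decide +kernel

theorem bil_vec : ∀ a ∈ rootList, bil a a = 2 := by decide +kernel

theorem comm_vec : ∀ r s : Fin 72, 0 ≤ bil (vec chevE6 6 r.val) (vec chevE6 6 s.val) → s ≠ r →
    s.val ≠ chevE6.neg r.val ∧ chevE6.commTerms r.val s.val = [] := by decide +kernel

end Cfsg.Agent.H897.Lat
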