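import Cfsg.Agent.H897.Lat

/-!
# The Weyl group of type `E₆` on the lattice, computably (S5740)
-/

set_option autoImplicit false

namespace Cfsg.Agent.H897.Lat

open CoxeterSystem Cfsg Cfsg.Lie Cfsg.Agent.ChevalleyStructure.CoxeterGeom Cfsg.Agent.ChevalleyStructure.CoxeterGeomTypes
  Cfsg.Agent.Tits.Roots Cfsg.Agent.Tits.Core Cfsg.Agent.Nodes.Coroot Cfsg.Agent.Nodes.RGDChev
  Cfsg.Agent.Nodes.BNOf Cfsg.Agent.Nodes.SubComb

/-- the type -/
theorem hp : IsType chevE6 6 CoxeterMatrix.E₆ := Cfsg.Agent.Nodes.RGDTwE6.hp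

variable {W : Type*} [Group W] (cs : CoxeterSystem CoxeterMatrix.E₆ W)

theorem isRoot_iff' (a : V) : IsRoot cs hp.isCartan a ↔ a ∈ rootList := by
  rw [isRoot_iff hp cs]
  constructor
  · rintro ⟨r, hr, rfl⟩
    rw [nroots_eq] at hr
    exact vec_mem ⟨r, hr⟩
  · intro ha
    obtain ⟨r, hr⟩ := mem_vec a ha
    exact ⟨r.val, by rw [nroots_eq]; exact r.2, hr⟩

/-- the Cartan matrix -/
def Am : Fin 6 → Fin 6 → ℤ :=
  ![![2, 0, -1, 0, 0, 0], ![0, 2, 0, -1, 0, 0], ![-1, 0, 2, -1, 0, 0], ![0, -1, -1, 2, -1, 0],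
    ![0, 0, 0, -1, 2, -1], ![0, 0, 0, 0, -1, 2]]

theorem cartan_eq : ∀ i j : Fin 6, cartanOf chevE6 6 i j = Am i j := by decide +kernel

theorem pairing_eq (i : Fin 6) (x : V) : pairing (cartanOf chevE6 6) i x = bil x (sr i) := by
  unfold pairing bil
  simp only [cartan_eq, Fin.sum_univ_six]
  fin_cases i <;> simp [Am, sr] <;> ring

theorem bil_symm (x y : V) : bil x y = bil y x := by unfold bil; ring

theorem bil_add (x y z : V) : bil (x + y) z = bil x z + bil y z := by
  unfold bil; simp only [Pi.add_apply]; ring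

theorem bil_smul (m : ℤ) (x z : V) : bil (m • x) z = m * bil x z := by
  unfold bil; simp only [Pi.smul_apply, smul_eq_mul]; ring

theorem bil_neg (x z : V) : bil (-x) z = -bil x z := by
  unfold bil; simp only [Pi.neg_apply]; ring

theorem bil_sub (x y z : V) : bil (x - y) z = bil x z - bil y z := by
  unfold bil; simp only [Pi.sub_apply]; ring

theorem dot_add (c x y : V) : dot c (x + y) = dot c x + dot c y := by
  unfold dot; simp only [Pi.add_apply]; ring

theorem dot_sub (c x y : V) : dot c (x - y) = dot c x - dot c y := by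
  unfold dot; simp only [Pi.sub_apply]; ring

theorem dot_smul (c : V) (m : ℤ) (x : V) : dot c (m • x) = m * dot c x := by
  unfold dot; simp only [Pi.smul_apply, smul_eq_mul]; ring

theorem dot_neg (c x : V) : dot c (-x) = -dot c x := by
  unfold dot; simp only [Pi.neg_apply]; ring

theorem dot_zero (c : V) : dot c 0 = 0 := by unfold dot; simp

theorem add_dot (c d x : V) : dot (c + d) x = dot c x + dot d x := by
  unfold dot; simp only [Pi.add_apply]; ring

theorem smul_dot (m : ℤ) (c x : V) : dot (m • c) x = m * dot c x := by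
  unfold dot; simp only [Pi.smul_apply, smul_eq_mul]; ring

theorem dot_sr (c : V) (i : Fin 6) : dot c (sr i) = c i := by
  unfold dot sr
  fin_cases i <;> simp

theorem rf_eq (a x : V) : rf a x = x - bil x a • a := by
  funext i
  unfold rf
  fin_cases i <;> simp

theorem rep_simple' (i : Fin 6) (x : V) : rep cs hp.isCartan (cs.simple i) x = rf (sr i) x := by
  rw [rep_simple_eq, pairing_eq, rf_eq]

theorem bil_sr (i : Fin 6) : bil (sr i) (sr i) = 2 := by
  revert i; decide +kernel

theorem bil_rf {a : V} (ha : bil a a = 2) (x y : V) : bil (rf a x) (rf a y) = bil x y := by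
  rw [rf_eq, rf_eq, bil_sub, bil_smul, bil_symm x, bil_symm a, bil_sub, bil_sub, bil_smul, bil_smul, ha,
    bil_symm y x, bil_symm a x]
  ring

theorem bil_rep (w : W) (x y : V) : bil (rep cs hp.isCartan w x) (rep cs hp.isCartan w y) = bil x y := by
  obtain ⟨ω, rfl⟩ := cs.wordProd_surjective w
  induction ω with
  | nil => rw [wordProd_nil, map_one, Module.End.one_apply, Module.End.one_apply]
  | cons i ω ih => rw [wordProd_cons, rep_mul_apply, rep_mul_apply, rep_simple', rep_simple', bil_rf (bil_sr i), ih]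

theorem rep_rfl_eq (w : W) (i : Fin 6) (x : V) :
    rep cs hp.isCartan (rfl' cs w i) x = rf (rep cs hp.isCartan w (sr i)) x := by
  have := finite_W hp cs
  rw [rep_rfl'_eq, cpr_rep_sr, pairing_eq, rf_eq]
  congr 2
  rw [← bil_rep cs w, ← rep_mul_apply, mul_inv_cancel, map_one, Module.End.one_apply]

/-- products of reflections come from `W` -/
theorem exists_actR (l : List V) (hl : ∀ a ∈ l, a ∈ rootList) :
    ∃ w : W, ∀ x, rep cs hp.isCartan w x = actR l x := by
  induction l with
  | nil => exact ⟨1, fun x => by rw [map_one]; rfl⟩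
  | cons a l ih =>
    obtain ⟨w, hw⟩ := ih fun b hb => hl b (List.mem_cons_of_mem _ hb)
    obtain ⟨u, i, hu⟩ := (isRoot_iff' cs a).2 (hl a List.mem_cons_self)
    refine ⟨rfl' cs u i * w, fun x => ?_⟩
    rw [rep_mul_apply, rep_rfl_eq, ← hu, hw]
    rfl

theorem pm_eq (x : V) : Cfsg.Agent.H897.Frame.permE Cfsg.Agent.H897.Frame.rho6 x = pm x := by
  funext i
  show x (Cfsg.Agent.H897.Frame.rho6.symm i) = pm x i
  fin_cases i <;> rfl

theorem bil_pm (x y : V) : bil (pm x) (pm y) = bil x y := by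
  unfold bil pm
  simp
  ring

end Cfsg.Agent.H897.Lat
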