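import Cfsg.Agent.H897.LatW

/-!
# The Steinberg endomorphism of `E₆(k)` with fixed points `²E₆(2)` and its twists (S5740)
-/

set_option autoImplicit false
set_option linter.unusedSectionVars false

namespace Cfsg.Agent.H897.Sg

open CoxeterSystem Cfsg Cfsg.Lie Cfsg.Agent.ChevalleyStructure Cfsg.Agent.ChevalleyStructure.Elts
  Cfsg.Agent.ChevalleyStructure.CoxeterGeom Cfsg.Agent.ChevalleyStructure.CoxeterGeomTypes
  Cfsg.Agent.ChevalleyStructure.NPerm Cfsg.Agent.ChevalleyStructure.SignedSymm Cfsg.Agent.Tits.Roots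
  Cfsg.Agent.Tits.Core Cfsg.Agent.Nodes.Reps Cfsg.Agent.Nodes.Bruhat Cfsg.Agent.Nodes.OppDec
  Cfsg.Agent.Nodes.BNOf Cfsg.Agent.Nodes.RGDChev Cfsg.Agent.KFacts.RgdField Cfsg.Agent.KFacts.RgdChevCoord
  Cfsg.Agent.LangThm Cfsg.Agent.BpExc.Fr Cfsg.Agent.BpExc.LangFr Cfsg.Agent.BpExc.Tow Cfsg.Agent.BpExc.TowChev
  Cfsg.Agent.BpExc.TorCent Cfsg.Agent.BpExc.FamTw.Gr Cfsg.Agent.H897.Lat Cfsg.Agent.H897.Frame
open Cfsg.Agent.ChevalleyStructure.GraphSymm (symmE6)
open Cfsg.Agent.CpAut.RgdUntw (fld fld_coe fld_mul fld_one fld_xc)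

universe u v

section Gen

variable {I W Y F : Type*} [Fintype I] [DecidableEq I] [Group W] [Group Y] [Field F] {M : CoxeterMatrix I}
  {cs : CoxeterSystem M W} {A : I → I → ℤ} {h : IsCartan M A} {T : Subgroup Y} {n : I → Y}
  {X : (I → ℤ) → Subgroup Y} {x : (I → ℤ) → F → Y} {χ : (I → ℤ) → Y → F}

/-- `N` permutes the root elements, linearly. -/
theorem conj_rp (C : Coords cs h T n X x χ) (hN : NSys M T n) {w : W} {g : Y} (hg : Rp cs hN w g)
    {r : I → ℤ} (hr : IsRoot cs h r) : ∃ c : F, c ≠ 0 ∧ ∀ a, g * x r a * g⁻¹ = x (rep cs h w r) (c * a) := by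
  obtain ⟨ω, rfl⟩ := cs.wordProd_surjective w
  induction ω generalizing g with
  | nil =>
    rw [wordProd_nil] at hg ⊢
    rw [map_one, Module.End.one_apply]
    exact ⟨χ r g, (C.coord r hr).chi_ne_zero hg.mem_of_one, (C.coord r hr).act g hg.mem_of_one⟩
  | cons i ω ih =>
    rw [wordProd_cons] at hg ⊢
    have h1 : Rp cs hN (cs.wordProd ω) ((n i)⁻¹ * g) := by
      have := (rp_simple cs hN i).inv.mul hg
      rwa [inv_mul_cancel_left] at this
    obtain ⟨c, hc, e⟩ := ih h1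
    obtain ⟨d, hd, e'⟩ := C.nact i _ (hr.act (cs.wordProd ω))
    refine ⟨d * c, mul_ne_zero hd hc, fun a => ?_⟩
    rw [rep_mul_apply, mul_assoc d, ← e', ← e]
    group

end Gen

variable {k : Type u} [Field k] {W : Type v} [Group W] (cs : CoxeterSystem CoxeterMatrix.E₆ W)

section Basic

variable (hk : LocFin k) [CharP k 2]

include hk

theorem tw : Tow cs hp.isCartan 2 (Tj hp (k := k)) (nc hp k) (Xj hp) := tow hp cs hk 2

theorem co : Coords cs hp.isCartan (TL (Tj hp (k := k))) (nc hp k) (XL (Xj hp)) (xc hp) (ch hp) := by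
  rw [TL_eq hp hk, XL_eq hp hk]
  exact coordsL hp cs hk 2

theorem chA : ChAdd cs hp.isCartan (TL (Tj hp (k := k))) (ch hp) := by
  rw [TL_eq hp hk]
  exact chAddL hp cs hk 2

omit [CharP k 2] in
theorem gg_top : GG cs hp.isCartan (TL (Tj hp (k := k))) (XL (Xj hp)) = ⊤ := GG_eq_top hp cs hk

end Basic

/-- A semilinear frame automorphism. -/
structure SFr [CharP k 2] (τ : MulAut ↥(chevE6.group k)) (g : V ≃+ V) : Prop where
  fr : Fr cs hp.isCartan (TL (Tj hp (k := k))) (XL (Xj hp)) τ g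
  frob : IsFrob 2 1 τ
  semi : ∀ a, IsRoot cs hp.isCartan a → ∃ c : k, c ≠ 0 ∧ ∀ s, τ (xc hp a s) = xc hp (g a) (c * s ^ 2)

variable {cs} in
theorem SFr.conj [CharP k 2] (hk : LocFin k) {τ : MulAut ↥(chevE6.group k)} {g : V ≃+ V} (F : SFr cs τ g) {w : W}
    {n : ↥(chevE6.group k)} (hn : Rp cs (tw cs hk).nsys w n) :
    SFr cs (MulAut.conj n * τ) (g.trans (repAut cs hp.isCartan w)) where
  fr := (Fr.conj (tw cs hk) hn).mul F.fr
  frob := F.frob.conj_mul n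
  semi a ha := by
    obtain ⟨c, hc, e⟩ := F.semi a ha
    obtain ⟨d, hd, e'⟩ := conj_rp (co cs hk) (tw cs hk).nsys hn ((F.fr.root a).2 ha)
    refine ⟨d * c, mul_ne_zero hd hc, fun s => ?_⟩
    show n * τ (xc hp a s) * n⁻¹ = _
    rw [e, e', mul_assoc]
    rfl

/-- the Frobenius automorphism times the graph automorphism -/
noncomputable def sg (k : Type u) [Field k] [CharP k 2] [PerfectRing k 2] : MulAut ↥(chevE6.group k) :=
  gr hp.inList symmE6 * fld chevE6 (frobeniusEquiv k 2)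

section Fld

theorem fld_eq_emb (τ : k ≃+* k) (g : ↥(chevE6.group k)) :
    fld chevE6 τ g = Cfsg.Agent.GpExc.Field.emb hp.inList (τ : k →+* k) g :=
  Subtype.ext (Units.ext rfl)

theorem fld_inv_fld (τ : k ≃+* k) (g : ↥(chevE6.group k)) : fld chevE6 τ⁻¹ (fld chevE6 τ g) = g := by
  rw [← MulAut.mul_apply, ← fld_mul, inv_mul_cancel, fld_one]
  rfl

theorem fld_T {τ : k ≃+* k} {t : ↥(chevE6.group k)} (ht : t ∈ TT chevE6 k) : fld chevE6 τ t ∈ TT chevE6 k := by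
  rw [fld_eq_emb]
  exact Cfsg.Agent.GpExc.Field.emb_T hp _ ⟨t, ht, rfl⟩

theorem fld_X {τ : k ≃+* k} (hk : LocFin k) [CharP k 2] {a : V}
    (ha : IsRoot cs hp.isCartan a) {y : ↥(chevE6.group k)} (hy : y ∈ XX chevE6 6 k a) :
    fld chevE6 τ y ∈ XX chevE6 6 k a := by
  have C := coordsL hp cs hk 2
  obtain ⟨s, hs, rfl⟩ := (isRoot_iff hp cs a).1 ha
  obtain ⟨c, rfl⟩ := ((C.coord _ ha).mem y).1 hy
  rw [fld_xc hp τ hs]
  exact ((C.coord _ ha).mem _).2 ⟨_, rfl⟩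

/-- field automorphisms are frame automorphisms -/
theorem fr_fld (hk : LocFin k) [CharP k 2] (τ : k ≃+* k) :
    Fr cs hp.isCartan (TT chevE6 k) (XX chevE6 6 k) (fld chevE6 τ) (AddEquiv.refl _) where
  tor t := ⟨fun ht => by rw [← fld_inv_fld τ t]; exact fld_T ht, fun ht => fld_T ht⟩
  root _ := Iff.rfl
  map a ha y := ⟨fun hy => by rw [← fld_inv_fld τ y]; exact fld_X cs hk ha hy,
    fun hy => fld_X cs hk ha hy⟩

theorem fld_isFrob [CharP k 2] [PerfectRing k 2] : IsFrob 2 1 (fld chevE6 (frobeniusEquiv k 2)) :=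
  ⟨1, fun g => by
    rw [one_mul, inv_one, mul_one]
    apply Units.ext
    rw [fld_coe]
    ext i j
    show frobeniusEquiv k 2 _ = iterateFrobenius k 2 1 _
    rw [frobeniusEquiv_apply, frobenius_def, iterateFrobenius_def, pow_one]⟩

end Fld

theorem sg_sfr [CharP k 2] [PerfectRing k 2] (hk : LocFin k) : SFr cs (sg k) (permE rho6) where
  fr := by
    rw [TL_eq hp hk, XL_eq hp hk]
    exact (fr_gr hp cs onSimple6 vecPerm6 (gr_sq6 hp.inList)).mul (fr_fld cs hk _)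
  frob := by
    have h := (gr_isFrob symmE6 inListE6 2 (k := k)).mul fld_isFrob
    rwa [zero_add] at h
  semi a ha := by
    obtain ⟨r, hr, rfl⟩ := (isRoot_iff hp cs a).1 ha
    refine ⟨((symmE6.ε ⟨r, hr⟩ : ℤ) : k), fun h0 => ?_, fun s => ?_⟩
    · have := symmE6.ε_sq' k ⟨r, hr⟩
      rw [h0, zero_mul] at this
      exact zero_ne_one this
    · show gr hp.inList symmE6 (fld chevE6 (frobeniusEquiv k 2) (xc hp (vec chevE6 6 r) s)) = _
      rw [fld_xc hp _ hr, ← VecPerm.vec vecPerm6 ⟨r, hr⟩]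
      apply Subtype.ext
      rw [coe_gr, coe_xc hp hr, coe_xc hp (symmE6.σ ⟨r, hr⟩).2, P_xG hp.inList symmE6 ⟨r, hr⟩]
      rfl

end Cfsg.Agent.H897.Sg
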