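import Cfsg.Agent.H897.Sg

/-!
# Elements of finite order of the torus of `E₆(k)` (S5740)

`tz ζ c` : the element of the torus with `χ_a = ζ ^ ⟨c, a⟩`.
-/

set_option autoImplicit false
set_option linter.unusedSectionVars false

namespace Cfsg.Agent.H897.Tor

open CoxeterSystem Cfsg Cfsg.Lie Cfsg.Agent.ChevalleyStructure Cfsg.Agent.ChevalleyStructure.Elts
  Cfsg.Agent.ChevalleyStructure.CoxeterGeom Cfsg.Agent.ChevalleyStructure.CoxeterGeomTypes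
  Cfsg.Agent.ChevalleyStructure.NPerm Cfsg.Agent.Tits.Roots
  Cfsg.Agent.Tits.Core Cfsg.Agent.Nodes.Reps Cfsg.Agent.Nodes.Bruhat Cfsg.Agent.Nodes.OppDec
  Cfsg.Agent.Nodes.BNOf Cfsg.Agent.Nodes.RGDChev Cfsg.Agent.KFacts.RgdField Cfsg.Agent.KFacts.RgdChevCoord
  Cfsg.Agent.LangThm Cfsg.Agent.BpExc.Fr Cfsg.Agent.BpExc.LangFr Cfsg.Agent.BpExc.Tow Cfsg.Agent.BpExc.TowChev
  Cfsg.Agent.BpExc.TorCent Cfsg.Agent.H897.Lat Cfsg.Agent.H897.Sg

universe u v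

/-! ### characters of the lattice -/

section Phi

variable {k : Type u} [Field k] {φ ψ : V → k}

theorem phi_smul (h0 : φ 0 = 1) (h1 : ∀ x y, φ (x + y) = φ x * φ y) (m : ℤ) (x : V) : φ (m • x) = φ x ^ m := by
  have hne : φ x ≠ 0 := fun h => by
    have := h1 x (-x)
    rw [add_neg_cancel, h0, h, zero_mul] at this
    exact one_ne_zero this
  induction m using Int.induction_on with
  | zero => rw [zero_smul, h0, zpow_zero]
  | succ n ih => rw [add_smul, one_smul, h1, ih, zpow_add₀ hne, zpow_one]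
  | pred n ih =>
    have h2 : φ ((-(n : ℤ) - 1) • x) * φ x = φ ((-(n : ℤ)) • x) := by
      rw [← h1]
      congr 1
      rw [sub_smul, one_smul, sub_add_cancel]
    rw [zpow_sub₀ hne, zpow_one, ← ih, ← h2, mul_div_cancel_right₀ _ hne]

theorem eq_sum (a : V) : a = a 0 • sr 0 + a 1 • sr 1 + a 2 • sr 2 + a 3 • sr 3 + a 4 • sr 4 + a 5 • sr 5 := by
  funext i
  fin_cases i <;> simp [sr]

theorem phi_prod (h0 : φ 0 = 1) (h1 : ∀ x y, φ (x + y) = φ x * φ y) (a : V) :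
    φ a = φ (sr 0) ^ a 0 * φ (sr 1) ^ a 1 * φ (sr 2) ^ a 2 * φ (sr 3) ^ a 3 * φ (sr 4) ^ a 4 * φ (sr 5) ^ a 5 := by
  conv_lhs => rw [eq_sum a]
  simp only [h1, phi_smul h0 h1]

theorem phi_ext (h0 : φ 0 = 1) (h1 : ∀ x y, φ (x + y) = φ x * φ y) (h2 : ψ 0 = 1)
    (h3 : ∀ x y, ψ (x + y) = ψ x * ψ y) (h : ∀ i, φ (sr i) = ψ (sr i)) (a : V) : φ a = ψ a := by
  rw [phi_prod h0 h1, phi_prod h2 h3]
  simp only [h]

theorem phi_dot (h0 : φ 0 = 1) (h1 : ∀ x y, φ (x + y) = φ x * φ y) {ζ : k} (hζ : ζ ≠ 0) {c : V}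
    (h : ∀ i, φ (sr i) = ζ ^ c i) (a : V) : φ a = ζ ^ dot c a := by
  rw [phi_prod h0 h1]
  simp only [h, ← zpow_mul, ← zpow_add₀ hζ]
  rfl

end Phi

section T

variable {k : Type u} [Field k] {W : Type v} [Group W] (cs : CoxeterSystem CoxeterMatrix.E₆ W)

theorem isRoot_sr' (i : Fin 6) : sr i ∈ rootList := by
  revert i; decide +kernel

theorem eq_of_ch {s t : ↥(chevE6.group k)} (hs : s ∈ TT chevE6 k) (ht : t ∈ TT chevE6 k)
    (h : ∀ i, ch hp (sr i) s = ch hp (sr i) t) : s = t := by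
  apply Subtype.ext
  refine Cfsg.Agent.BpExc.FamTw.Tor.eq_of_act hp hs ht fun i => ?_
  have hr := simple_lt hp.inList (lt_rank hp i)
  have h1 := (act hp hr hs).2 1
  have h2 := (act hp hr ht).2 1
  have e : ∀ y, ch (K := k) hp (vec chevE6 6 (chevE6.simple i)) y = ch hp (sr i) y := fun y => by rw [vec_simple hp i]
  rw [e] at h1 h2
  rw [h i, ← h2] at h1
  have h3 := congrArg (fun y : ↥(chevE6.group k) => (y : GL chevE6.Idx k)) h1
  simp only [Subgroup.coe_mul, Subgroup.coe_inv, coe_xc hp hr] at h3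
  exact h3

theorem exists_t [IsAlgClosed k] (b : Fin 6 → k) (hb : ∀ i, b i ≠ 0) :
    ∃ t ∈ TT chevE6 k, ∀ i, ch hp (sr i) t = b i := by
  obtain ⟨t, ht, hpos, -⟩ := Cfsg.Agent.BpExc.FamTw.Tor.exists_diag hp (F := k) (m := 3)
    (B := Cfsg.Agent.BpExc.FamTw.Six.B6) Cfsg.Agent.BpExc.FamTw.Six.B6_mul (b := b) hb
    (fun i => IsAlgClosed.exists_pow_nat_eq (b i) (by norm_num)) (by norm_num)
  have htG : t ∈ chevE6.group k := diagonal_le_group hp.inList k ht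
  refine ⟨⟨t, htG⟩, ht, fun i => ?_⟩
  have hr := simple_lt hp.inList (lt_rank hp i)
  rw [← vec_simple hp i]
  refine ch_eq hp hr ht ?_
  apply Subtype.ext
  rw [Subgroup.coe_mul, Subgroup.coe_mul, Subgroup.coe_inv, coe_xc hp hr, coe_xc hp hr]
  have := hpos i 1
  rw [mul_one] at this
  exact this

variable (hk : LocFin k) [CharP k 2]

include hk in
theorem mem_T {t : ↥(chevE6.group k)} : t ∈ TL (Tj hp (k := k)) ↔ t ∈ TT chevE6 k := by rw [TL_eq hp hk]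

include hk in
/-- two elements of the torus with the same characters on a basis -/
theorem eq_of_ch_g {s t : ↥(chevE6.group k)} (hs : s ∈ TT chevE6 k) (ht : t ∈ TT chevE6 k) (g : V ≃+ V)
    (hg : ∀ i, IsRoot CoxeterMatrix.E₆.toCoxeterSystem hp.isCartan (g (sr i)))
    (h : ∀ i, ch hp (g (sr i)) s = ch hp (g (sr i)) t) : s = t := by
  obtain ⟨φ, h0, h1, h2⟩ := chAddL hp CoxeterMatrix.E₆.toCoxeterSystem hk 2 s hs
  obtain ⟨ψ, h3, h4, h5⟩ := chAddL hp CoxeterMatrix.E₆.toCoxeterSystem hk 2 t ht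
  have h6 : ∀ a, φ (g a) = ψ (g a) := by
    intro a
    refine phi_ext (φ := fun a => φ (g a)) (ψ := fun a => ψ (g a)) ?_ ?_ ?_ ?_ ?_ a
    · show φ (g 0) = 1
      rw [map_zero, h0]
    · intro x y
      show φ (g (x + y)) = _
      rw [map_add, h1]
    · show ψ (g 0) = 1
      rw [map_zero, h3]
    · intro x y
      show ψ (g (x + y)) = _
      rw [map_add, h4]
    · intro i
      show φ (g (sr i)) = ψ (g (sr i))
      rw [← h2 _ (hg i), ← h5 _ (hg i), h i]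
  refine eq_of_ch hs ht fun i => ?_
  have hr : IsRoot CoxeterMatrix.E₆.toCoxeterSystem hp.isCartan (sr i) := isRoot_sr _ _ i
  rw [h2 _ hr, h5 _ hr]
  have := h6 (g.symm (sr i))
  rwa [AddEquiv.apply_symm_apply] at this

/-- the torus element with the characters `ζ ^ ⟨c, a⟩` -/
noncomputable def tz (ζ : k) (c : V) : ↥(chevE6.group k) :=
  open Classical in if h : ∃ t ∈ TT chevE6 k, ∀ i, ch hp (sr i) t = ζ ^ c i then h.choose else 1

variable [IsAlgClosed k] {ζ : k}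

omit [CharP k 2] in
theorem tz_spec (hζ : ζ ≠ 0) (c : V) : tz ζ c ∈ TT chevE6 k ∧ ∀ i, ch hp (sr i) (tz ζ c) = ζ ^ c i := by
  have h := exists_t (k := k) (fun i => ζ ^ c i) (fun i => zpow_ne_zero _ hζ)
  unfold tz
  rw [dif_pos h]
  exact h.choose_spec

include hk in
theorem ch_tz (hζ : ζ ≠ 0) (c : V) {a : V} (ha : a ∈ rootList) : ch hp a (tz ζ c) = ζ ^ dot c a := by
  obtain ⟨h1, h2⟩ := tz_spec hζ c
  obtain ⟨φ, h3, h4, h5⟩ := chAddL hp CoxeterMatrix.E₆.toCoxeterSystem hk 2 _ h1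
  have hr : ∀ a ∈ rootList, IsRoot CoxeterMatrix.E₆.toCoxeterSystem hp.isCartan a := fun a ha => (isRoot_iff' _ a).2 ha
  rw [h5 a (hr a ha)]
  refine phi_dot h3 h4 hζ (fun i => ?_) a
  rw [← h5 _ (hr _ (isRoot_sr' i)), h2]

include hk in
theorem ch_mul {s t : ↥(chevE6.group k)} (hs : s ∈ TT chevE6 k) (ht : t ∈ TT chevE6 k) {a : V} (ha : a ∈ rootList) :
    ch hp a (s * t) = ch hp a s * ch hp a t :=
  ((coordsL hp CoxeterMatrix.E₆.toCoxeterSystem hk 2).coord a ((isRoot_iff' _ a).2 ha)).chi_mul hs ht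

include hk in
theorem ch_one {a : V} (ha : a ∈ rootList) : ch (K := k) hp a 1 = 1 := by
  have h := ch_mul hk (one_mem (TT chevE6 k)) (one_mem _) ha
  rw [mul_one] at h
  have hne := ((coordsL hp CoxeterMatrix.E₆.toCoxeterSystem hk 2).coord a ((isRoot_iff' _ a).2 ha)).chi_ne_zero
    (one_mem (TT chevE6 k))
  exact (mul_eq_left₀ hne).1 h.symm

include hk in
theorem ch_pow {t : ↥(chevE6.group k)} (ht : t ∈ TT chevE6 k) {a : V} (ha : a ∈ rootList) (m : ℕ) :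
    ch hp a (t ^ m) = ch hp a t ^ m := by
  induction m with
  | zero => rw [pow_zero, pow_zero, ch_one hk ha]
  | succ m ih => rw [pow_succ, pow_succ, ch_mul hk (pow_mem ht m) ht ha, ih]

include hk in
theorem tz_add (hζ : ζ ≠ 0) (c d : V) : tz ζ (c + d) = tz ζ c * tz ζ d := by
  refine eq_of_ch (tz_spec hζ _).1 (mul_mem (tz_spec hζ _).1 (tz_spec hζ _).1) fun i => ?_
  rw [ch_mul hk (tz_spec hζ _).1 (tz_spec hζ _).1 (isRoot_sr' i), (tz_spec hζ _).2, (tz_spec hζ _).2,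
    (tz_spec hζ _).2, ← zpow_add₀ hζ]
  rfl

include hk in
theorem tz_eq_iff {l : ℕ} (hl : 0 < l) (hζ : IsPrimitiveRoot ζ l) (c d : V) :
    tz ζ c = tz ζ d ↔ ∀ i, (l : ℤ) ∣ c i - d i := by
  have hζ0 : ζ ≠ 0 := hζ.ne_zero hl.ne'
  have key : ∀ i, ζ ^ c i = ζ ^ d i ↔ (l : ℤ) ∣ c i - d i := by
    intro i
    rw [← hζ.zpow_eq_one_iff_dvd, zpow_sub₀ hζ0, div_eq_one_iff_eq (zpow_ne_zero _ hζ0)]
  constructor
  · intro h i
    rw [← key, ← (tz_spec hζ0 c).2, ← (tz_spec hζ0 d).2, h]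
  · intro h
    refine eq_of_ch (tz_spec hζ0 _).1 (tz_spec hζ0 _).1 fun i => ?_
    rw [(tz_spec hζ0 _).2, (tz_spec hζ0 _).2, (key i).2 (h i)]

include hk in
theorem tz_zero (hζ : ζ ≠ 0) : tz ζ 0 = 1 := by
  have := tz_add hk hζ 0 0
  rw [add_zero, left_eq_mul] at this
  exact this

include hk in
theorem tz_pow (hζ : ζ ≠ 0) (c : V) (m : ℕ) : tz ζ c ^ m = tz ζ ((m : ℤ) • c) := by
  induction m with
  | zero => rw [pow_zero, Nat.cast_zero, zero_smul, tz_zero hk hζ]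
  | succ m ih => rw [pow_succ, ih, Nat.cast_succ, add_smul, one_smul, tz_add hk hζ]

include hk in
theorem tz_pow_eq_one {l : ℕ} (hl : 0 < l) (hζ : IsPrimitiveRoot ζ l) (c : V) : tz ζ c ^ l = 1 := by
  have hζ0 : ζ ≠ 0 := hζ.ne_zero hl.ne'
  rw [tz_pow hk hζ0, ← tz_zero hk hζ0, tz_eq_iff hk hl hζ]
  intro i
  simp

include hk in
theorem tz_eq_one_iff {l : ℕ} (hl : 0 < l) (hζ : IsPrimitiveRoot ζ l) (c : V) :
    tz ζ c = 1 ↔ ∀ i, (l : ℤ) ∣ c i := by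
  rw [← tz_zero hk (hζ.ne_zero hl.ne'), tz_eq_iff hk hl hζ]
  simp

include hk in
/-- the elements of the torus of exponent `l` -/
theorem exists_tz {l : ℕ} (hl : 0 < l) (hζ : IsPrimitiveRoot ζ l) {t : ↥(chevE6.group k)} (ht : t ∈ TT chevE6 k)
    (htl : t ^ l = 1) : ∃ c : Fin 6 → ℕ, (∀ i, c i < l) ∧ t = tz ζ (fun i => (c i : ℤ)) := by
  have hζ0 : ζ ≠ 0 := hζ.ne_zero hl.ne'
  have h1 : ∀ i, ∃ m < l, ζ ^ m = ch hp (sr i) t := by
    intro i
    have : NeZero l := ⟨hl.ne'⟩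
    apply hζ.eq_pow_of_pow_eq_one
    rw [← ch_pow hk ht (isRoot_sr' i), htl, ch_one hk (isRoot_sr' i)]
  choose c hc hcc using h1
  refine ⟨c, hc, eq_of_ch ht (tz_spec hζ0 _).1 fun i => ?_⟩
  rw [(tz_spec hζ0 _).2, ← hcc, zpow_natCast]

include hk in
/-- the torus has no involutions -/
theorem eq_one_of_sq {t : ↥(chevE6.group k)} (ht : t ∈ TT chevE6 k) (h2 : t ^ 2 = 1) : t = 1 := by
  refine eq_of_ch ht (one_mem _) fun i => ?_
  rw [ch_one hk (isRoot_sr' i)]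
  have h3 : ch hp (sr i) t ^ 2 = 1 := by rw [← ch_pow hk ht (isRoot_sr' i), h2, ch_one hk (isRoot_sr' i)]
  have h4 : (ch hp (sr i) t - 1) ^ 2 = 0 := by
    rw [sub_sq, h3, mul_one, CharTwo.two_eq_zero, zero_mul, sub_zero, one_pow, CharTwo.add_self_eq_zero]
  exact sub_eq_zero.1 (pow_eq_zero_iff two_ne_zero |>.1 h4)

/-! ### twists -/

variable {cs} {τ : MulAut ↥(chevE6.group k)} {g : V ≃+ V}

include hk in
theorem tau_mem (F : SFr cs τ g) {t : ↥(chevE6.group k)} (ht : t ∈ TT chevE6 k) : τ t ∈ TT chevE6 k := by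
  rw [← mem_T hk] at ht ⊢
  exact (F.fr.tor t).2 ht

include hk in
theorem ch_tau (F : SFr cs τ g) {t : ↥(chevE6.group k)} (ht : t ∈ TT chevE6 k) {a : V} (ha : a ∈ rootList) :
    ch hp (g a) (τ t) = ch hp a t ^ 2 := by
  have hr := (isRoot_iff' cs a).2 ha
  obtain ⟨c, hc, e⟩ := F.semi a hr
  have C := coordsL hp cs hk 2
  have h1 := congrArg τ ((C.coord a hr).act t ht 1)
  rw [map_mul, map_mul, map_inv, e, e, (C.coord _ ((F.fr.root a).2 hr)).act _ (tau_mem hk F ht)] at h1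
  have h2 := (C.coord _ ((F.fr.root a).2 hr)).inj h1
  rw [one_pow, mul_one, mul_one, mul_comm c] at h2
  exact mul_right_cancel₀ hc h2

include hk in
theorem tau_tz (F : SFr cs τ g) {l : ℕ} (hl : 0 < l) (hζ : IsPrimitiveRoot ζ l) (c : V)
    (h : ∀ i, (l : ℤ) ∣ dot c (g (sr i)) - 2 * c i) : τ (tz ζ c) = tz ζ c := by
  have hζ0 : ζ ≠ 0 := hζ.ne_zero hl.ne'
  have hg : ∀ i, g (sr i) ∈ rootList := fun i =>
    (isRoot_iff' cs _).1 ((F.fr.root _).2 ((isRoot_iff' cs _).2 (isRoot_sr' i)))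
  refine eq_of_ch_g hk (tau_mem hk F (tz_spec hζ0 _).1) (tz_spec hζ0 _).1 g
    (fun i => (isRoot_iff' _ _).2 (hg i)) fun i => ?_
  rw [ch_tau hk F (tz_spec hζ0 _).1 (isRoot_sr' i), ch_tz hk hζ0 c (hg i), ch_tz hk hζ0 c (isRoot_sr' i), dot_sr,
    ← zpow_natCast, ← zpow_mul]
  have h1 := (hζ.zpow_eq_one_iff_dvd _).2 (h i)
  rw [zpow_sub₀ hζ0, div_eq_one_iff_eq (zpow_ne_zero _ hζ0)] at h1
  rw [h1, mul_comm]
  rfl

include hk in
theorem of_tau_tz (F : SFr cs τ g) {l : ℕ} (hl : 0 < l) (hζ : IsPrimitiveRoot ζ l) (c : V)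
    (h : τ (tz ζ c) = tz ζ c) (i : Fin 6) : (l : ℤ) ∣ dot c (g (sr i)) - 2 * c i := by
  have hζ0 : ζ ≠ 0 := hζ.ne_zero hl.ne'
  have hg : ∀ i, g (sr i) ∈ rootList := fun i =>
    (isRoot_iff' cs _).1 ((F.fr.root _).2 ((isRoot_iff' cs _).2 (isRoot_sr' i)))
  have h1 := ch_tau hk F (tz_spec hζ0 c).1 (isRoot_sr' i)
  rw [h, ch_tz hk hζ0 c (hg i), ch_tz hk hζ0 c (isRoot_sr' i), dot_sr, ← zpow_natCast, ← zpow_mul] at h1
  rw [← hζ.zpow_eq_one_iff_dvd, zpow_sub₀ hζ0, div_eq_one_iff_eq (zpow_ne_zero _ hζ0), h1, mul_comm]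
  rfl

end T

end Cfsg.Agent.H897.Tor
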